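import Groth.Agent.Lib.RigidRel.Global
import Mathlib.AlgebraicGeometry.Gluing
import Mathlib.AlgebraicGeometry.Morphisms.UniversallyOpen

/-!
# Rigidity: the locus where a morphism collapses the fibres
-/

universe u
open CategoryTheory Limits AlgebraicGeometry TopologicalSpace Opposite

set_option linter.style.haveILetI false
set_option backward.isDefEq.respectTransparency false

namespace Groth.Agent.RigidRel

/-- The set of points whose fibre is mapped to a single point. -/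
def collapsed {X Y S : Scheme.{u}} (ξ : X ⟶ S) (f : X ⟶ Y) : Set S :=
  {s : S | ∃ y : Y, ∀ x : X, ξ.base x = s → f.base x = y}

theorem exists_factor_of_isAffine {A B C : Scheme.{u}} [IsAffine C] (p : A ⟶ B) [IsIso p.appTop] (g : A ⟶ C) :
    ∃ r : B ⟶ C, p ≫ r = g := by
  refine ⟨B.toSpecΓ ≫ Spec.map (g.appTop ≫ inv p.appTop) ≫ C.isoSpec.inv, ?_⟩
  rw [Scheme.toSpecΓ_naturality_assoc, ← Spec.map_comp_assoc, Category.assoc, IsIso.inv_hom_id,
    Category.comp_id, ← Scheme.toSpecΓ_naturality_assoc, Scheme.toSpecΓ_isoSpec_inv, Category.comp_id]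

theorem cancel_of_injective_app {A B Y : Scheme.{u}} (p : A ⟶ B) [Surjective p]
    (h : ∀ U : B.Opens, IsAffineOpen U → Function.Injective (p.app U).hom) (a b : B ⟶ Y)
    (hab : p ≫ a = p ≫ b) : a = b := by
  have hpt : ∀ z, a z = b z := fun z => by
    obtain ⟨w, rfl⟩ := p.surjective z
    rw [← Scheme.Hom.comp_apply, hab, Scheme.Hom.comp_apply]
  refine Scheme.hom_ext_of_forall _ _ fun z => ?_
  obtain ⟨V, hV, hzV, -⟩ := exists_isAffineOpen_mem_and_subset (X := Y) (x := a z) (U := ⊤) trivial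
  obtain ⟨U, hU, hzU, hUV⟩ := exists_isAffineOpen_mem_and_subset (X := B) (x := z) (U := a ⁻¹ᵁ V) hzV
  refine ⟨U, hzU, ?_⟩
  haveI : IsAffine V.toScheme := hV
  have ha : Set.range (U.ι ≫ a) ⊆ Set.range V.ι := by
    rintro _ ⟨w, rfl⟩; rw [Scheme.Opens.range_ι]; exact hUV w.2
  have hb : Set.range (U.ι ≫ b) ⊆ Set.range V.ι := by
    rintro _ ⟨w, rfl⟩
    rw [Scheme.Opens.range_ι, Scheme.Hom.comp_apply, ← hpt]
    exact hUV w.2
  rw [← IsOpenImmersion.lift_fac V.ι (U.ι ≫ a) ha, ← IsOpenImmersion.lift_fac V.ι (U.ι ≫ b) hb]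
  congr 1
  apply ext_of_isAffine
  haveI : Mono (p ∣_ U).appTop := by
    refine ConcreteCategory.mono_of_injective _ ?_
    rw [morphismRestrict_appTop]
    intro x y hxy
    simp only [ConcreteCategory.comp_apply] at hxy
    have h1 : Function.Injective (p.app (U.ι ''ᵁ ⊤)).hom := h _ (by rwa [Scheme.Opens.ι_image_top])
    exact h1 ((ConcreteCategory.bijective_of_isIso _).1 hxy)
  rw [← cancel_mono (p ∣_ U).appTop, ← Scheme.Hom.comp_appTop, ← Scheme.Hom.comp_appTop]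
  congr 1
  rw [← cancel_mono V.ι, Category.assoc, Category.assoc, IsOpenImmersion.lift_fac,
    IsOpenImmersion.lift_fac, morphismRestrict_ι_assoc, morphismRestrict_ι_assoc, hab]

theorem surjective_of_injective_app {X S : Scheme.{u}} (ξ : X ⟶ S) [IsProper ξ]
    (h : ∀ U : S.Opens, IsAffineOpen U → Function.Injective (ξ.app U).hom) : Surjective ξ := by
  refine ⟨fun s => ?_⟩
  by_contra hs
  let O : S.Opens := ⟨(Set.range ξ)ᶜ, ξ.isClosedMap.isClosed_range.isOpen_compl⟩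
  obtain ⟨U, hU, hsU, hUO⟩ := exists_isAffineOpen_mem_and_subset (X := S) (x := s) (U := O)
    (fun ⟨x, hx⟩ => hs ⟨x, hx⟩)
  have hbot : ξ ⁻¹ᵁ U = ⊥ := by
    ext x
    simp only [Scheme.Hom.coe_preimage, Set.mem_preimage, Opens.coe_bot, Set.mem_empty_iff_false, iff_false]
    exact fun hx => hUO hx ⟨x, rfl⟩
  haveI : Subsingleton Γ(X, ξ ⁻¹ᵁ U) := by
    rw [hbot]
    exact CommRingCat.subsingleton_of_isTerminal X.sheaf.isTerminalOfEmpty
  haveI : Subsingleton Γ(S, U) := (h U hU).subsingleton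
  haveI : Nonempty U := ⟨⟨s, hsU⟩⟩
  exact not_subsingleton Γ(S, U) inferInstance

section Collapse

variable {X Y S : Scheme.{u}} (ξ : X ⟶ S) [IsProper ξ]
  (h0 : ∀ U : S.Opens, IsAffineOpen U → Function.Bijective (ξ.app U).hom) (f : X ⟶ Y)

include h0 in
theorem surjective_of_h0 : Surjective ξ := surjective_of_injective_app ξ fun U hU => (h0 U hU).1

include h0 in
theorem exists_local_factor (s : S) (hs : s ∈ collapsed ξ f) :
    ∃ U : S.Opens, IsAffineOpen U ∧ s ∈ U ∧ ∃ r : U.toScheme ⟶ Y, (ξ ∣_ U) ≫ r = (ξ ⁻¹ᵁ U).ι ≫ f := by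
  haveI := surjective_of_h0 ξ h0
  obtain ⟨y, hy⟩ := hs
  obtain ⟨V, hV, hyV, -⟩ := exists_isAffineOpen_mem_and_subset (X := Y) (x := y) (U := ⊤) trivial
  let O : S.Opens := ⟨(ξ '' ((f ⁻¹' (V : Set Y))ᶜ))ᶜ,
    (ξ.isClosedMap _ (V.isOpen.preimage f.continuous).isClosed_compl).isOpen_compl⟩
  obtain ⟨U, hU, hsU, hUO⟩ := exists_isAffineOpen_mem_and_subset (X := S) (x := s) (U := O) (by
    rintro ⟨x, hx, rfl⟩
    refine hx ?_
    show f x ∈ V
    rw [hy x rfl]; exact hyV)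
  refine ⟨U, hU, hsU, ?_⟩
  have hsub : Set.range ((ξ ⁻¹ᵁ U).ι ≫ f) ⊆ Set.range V.ι := by
    rintro _ ⟨w, rfl⟩
    rw [Scheme.Opens.range_ι]
    by_contra hw
    exact hUO w.2 ⟨w.1, hw, rfl⟩
  haveI : IsAffine V.toScheme := hV
  haveI : IsIso (ξ ∣_ U).appTop := by
    rw [morphismRestrict_appTop]
    haveI : IsIso (ξ.app (U.ι ''ᵁ ⊤)) := by
      rw [ConcreteCategory.isIso_iff_bijective]
      exact h0 _ (by rwa [Scheme.Opens.ι_image_top])
    infer_instance
  obtain ⟨r, hr⟩ := exists_factor_of_isAffine (ξ ∣_ U) (IsOpenImmersion.lift V.ι ((ξ ⁻¹ᵁ U).ι ≫ f) hsub)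
  exact ⟨r ≫ V.ι, by rw [← Category.assoc, hr, IsOpenImmersion.lift_fac]⟩

theorem mem_collapsed_of_factor {U : S.Opens} (r : U.toScheme ⟶ Y) (hr : (ξ ∣_ U) ≫ r = (ξ ⁻¹ᵁ U).ι ≫ f)
    (s : S) (hs : s ∈ U) : s ∈ collapsed ξ f := by
  refine ⟨r ⟨s, hs⟩, fun x hx => ?_⟩
  have hxU : x ∈ ξ ⁻¹ᵁ U := by rw [Scheme.Hom.mem_preimage]; exact hx ▸ hs
  have h := congrArg (fun g => g ⟨x, hxU⟩) hr
  simp only [Scheme.Hom.comp_apply] at h
  refine h.symm.trans (congrArg r (Subtype.ext ?_))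
  exact (congrArg (fun g => g ⟨x, hxU⟩) (morphismRestrict_ι ξ U)).trans hx

include h0 in
theorem isOpen_collapsed : IsOpen (collapsed ξ f) := by
  rw [isOpen_iff_forall_mem_open]
  intro s hs
  obtain ⟨U, -, hsU, r, hr⟩ := exists_local_factor ξ h0 f s hs
  exact ⟨U, fun t ht => mem_collapsed_of_factor ξ f r hr t ht, U.isOpen, hsU⟩

/-- The collapsed locus as an open subscheme. -/
def collapsedOpen : S.Opens := ⟨collapsed ξ f, isOpen_collapsed ξ h0 f⟩

include h0 in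
theorem cancel (W : S.Opens) (a b : W.toScheme ⟶ Y) (hab : (ξ ∣_ W) ≫ a = (ξ ∣_ W) ≫ b) : a = b := by
  haveI := surjective_of_h0 ξ h0
  haveI : Surjective (ξ ∣_ W) := IsZariskiLocalAtTarget.restrict (P := @Surjective) inferInstance W
  refine cancel_of_injective_app (ξ ∣_ W) (fun U hU => ?_) a b hab
  rw [morphismRestrict_app]
  intro a b hab
  simp only [CommRingCat.hom_comp, RingHom.comp_apply] at hab
  exact (h0 _ (hU.image_of_isOpenImmersion W.ι)).1 ((ConcreteCategory.bijective_of_isIso _).1 hab)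

include h0 in
theorem exists_factor :
    ∃ r : (collapsedOpen ξ h0 f).toScheme ⟶ Y,
      (ξ ∣_ collapsedOpen ξ h0 f) ≫ r = (ξ ⁻¹ᵁ collapsedOpen ξ h0 f).ι ≫ f := by
  set L := collapsedOpen ξ h0 f with hLdef
  choose U hU hmem r hr using fun s : L => exists_local_factor ξ h0 f s.1 s.2
  have hle : ∀ s, U s ≤ L := fun s t ht => mem_collapsed_of_factor ξ f (r s) (hr s) t ht
  let 𝒰 := L.toScheme.openCoverOfIsOpenCover (fun s : L => L.ι ⁻¹ᵁ U s) (by
    rw [IsOpenCover, eq_top_iff]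
    exact fun s _ => Opens.mem_iSup.2 ⟨s, hmem s⟩)
  let res : ∀ s : L, (L.ι ⁻¹ᵁ U s).toScheme ⟶ (U s).toScheme := fun s => L.ι ∣_ U s
  have hagree : ∀ s t, S.homOfLE (inf_le_left : U s ⊓ U t ≤ U s) ≫ r s =
      S.homOfLE (inf_le_right : U s ⊓ U t ≤ U t) ≫ r t := by
    intro s t
    refine cancel ξ h0 _ _ _ ?_
    have hsq : ∀ (V W : S.Opens) (h : V ≤ W), (ξ ∣_ V) ≫ S.homOfLE h =
        X.homOfLE (show ξ ⁻¹ᵁ V ≤ ξ ⁻¹ᵁ W from ξ.preimage_mono h) ≫ (ξ ∣_ W) := fun V W h => by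
      rw [← cancel_mono W.ι]
      simp only [Category.assoc, Scheme.homOfLE_ι, morphismRestrict_ι, Scheme.homOfLE_ι_assoc]
    rw [← Category.assoc, ← Category.assoc, hsq, hsq, Category.assoc, Category.assoc, hr, hr,
      Scheme.homOfLE_ι_assoc, Scheme.homOfLE_ι_assoc]
  have hcompat : ∀ x y, pullback.fst (𝒰.f x) (𝒰.f y) ≫ res x ≫ r x =
      pullback.snd (𝒰.f x) (𝒰.f y) ≫ res y ≫ r y := by
    intro x y
    have e : (pullback.fst (𝒰.f x) (𝒰.f y) ≫ res x) ≫ (U x).ι = (pullback.snd (𝒰.f x) (𝒰.f y) ≫ res y) ≫ (U y).ι := by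
      simp only [res, Category.assoc, morphismRestrict_ι]
      exact (Category.assoc _ _ _).symm.trans ((congrArg (· ≫ L.ι) pullback.condition).trans (Category.assoc _ _ _))
    have hrange : Set.range ((pullback.fst (𝒰.f x) (𝒰.f y) ≫ res x) ≫ (U x).ι) ⊆ Set.range (U x ⊓ U y : S.Opens).ι := by
      rintro _ ⟨w, rfl⟩
      rw [Scheme.Opens.range_ι]
      refine ⟨((pullback.fst (𝒰.f x) (𝒰.f y) ≫ res x) w).2, ?_⟩
      rw [e]
      exact ((pullback.snd (𝒰.f x) (𝒰.f y) ≫ res y) w).2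
    let l := IsOpenImmersion.lift (U x ⊓ U y : S.Opens).ι _ hrange
    have h1 : l ≫ S.homOfLE inf_le_left = pullback.fst (𝒰.f x) (𝒰.f y) ≫ res x := by
      rw [← cancel_mono (U x).ι, Category.assoc, Scheme.homOfLE_ι, IsOpenImmersion.lift_fac]
    have h2 : l ≫ S.homOfLE inf_le_right = pullback.snd (𝒰.f x) (𝒰.f y) ≫ res y := by
      rw [← cancel_mono (U y).ι, Category.assoc, Scheme.homOfLE_ι, IsOpenImmersion.lift_fac, e]
    rw [← Category.assoc, ← h1, Category.assoc, hagree, ← Category.assoc, h2, Category.assoc]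
  refine ⟨𝒰.glueMorphisms (fun s => res s ≫ r s) hcompat, ?_⟩
  refine Scheme.hom_ext_of_forall _ _ fun z => ?_
  let s : L := (ξ ∣_ L) z
  refine ⟨(ξ ∣_ L) ⁻¹ᵁ (L.ι ⁻¹ᵁ U s), hmem s, ?_⟩
  have e0 := Scheme.Cover.ι_glueMorphisms 𝒰 (fun s => res s ≫ r s) hcompat s
  change (L.ι ⁻¹ᵁ U s).ι ≫ _ = _ at e0
  rw [← morphismRestrict_ι_assoc, e0]
  -- both sides factor through `ξ ⁻¹ᵁ U s`
  have hrange : Set.range (((ξ ∣_ L) ⁻¹ᵁ (L.ι ⁻¹ᵁ U s)).ι ≫ (ξ ⁻¹ᵁ L).ι) ⊆ Set.range (ξ ⁻¹ᵁ U s).ι := by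
    rintro _ ⟨w, rfl⟩
    rw [Scheme.Opens.range_ι]
    show ξ ((ξ ⁻¹ᵁ L).ι w.1) ∈ U s
    rw [← Scheme.Hom.comp_apply, ← morphismRestrict_ι]
    exact w.2
  have hl := IsOpenImmersion.lift_fac (ξ ⁻¹ᵁ U s).ι _ hrange
  set l := IsOpenImmersion.lift (ξ ⁻¹ᵁ U s).ι _ hrange
  have e1 : ((ξ ∣_ L) ∣_ (L.ι ⁻¹ᵁ U s)) ≫ res s = l ≫ (ξ ∣_ U s) := by
    rw [← cancel_mono (U s).ι]
    simp only [res, Category.assoc, morphismRestrict_ι, morphismRestrict_ι_assoc]
    rw [reassoc_of% hl]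
  rw [← Category.assoc, e1, Category.assoc, hr, reassoc_of% hl]

include h0 in
theorem exists_factor_iff (v : Y ⟶ S) (hf : f ≫ v = ξ) (T : Scheme.{u}) (τ : T ⟶ S) :
    (∃ r : T ⟶ Y, r ≫ v = τ ∧ pullback.fst ξ τ ≫ f = pullback.snd ξ τ ≫ r) ↔
      ∀ t : T, τ.base t ∈ collapsed ξ f := by
  constructor
  · rintro ⟨r, -, hr⟩ t
    refine ⟨r t, fun x hx => ?_⟩
    obtain ⟨z, hz1, hz2⟩ := Scheme.Pullback.exists_preimage_pullback (f := ξ) (g := τ) x t hx
    rw [← hz1, ← hz2, ← Scheme.Hom.comp_apply, hr, Scheme.Hom.comp_apply]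
  · intro h
    set L := collapsedOpen ξ h0 f
    obtain ⟨rL, hrL⟩ : ∃ r : L.toScheme ⟶ Y, (ξ ∣_ L) ≫ r = (ξ ⁻¹ᵁ L).ι ≫ f := exists_factor ξ h0 f
    have hvL : rL ≫ v = L.ι := by
      refine cancel ξ h0 L _ _ ?_
      rw [← Category.assoc, hrL, Category.assoc, hf, morphismRestrict_ι]
    have hsub : Set.range τ ⊆ Set.range L.ι := by
      rw [Scheme.Opens.range_ι]; rintro _ ⟨t, rfl⟩; exact h t
    refine ⟨IsOpenImmersion.lift L.ι τ hsub ≫ rL, by rw [Category.assoc, hvL, IsOpenImmersion.lift_fac], ?_⟩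
    have hsub' : Set.range (pullback.fst ξ τ) ⊆ Set.range (ξ ⁻¹ᵁ L).ι := by
      rw [Scheme.Opens.range_ι]
      rintro _ ⟨z, rfl⟩
      show ξ (pullback.fst ξ τ z) ∈ L
      rw [← Scheme.Hom.comp_apply, pullback.condition, Scheme.Hom.comp_apply]
      exact h _
    have e2 : IsOpenImmersion.lift _ _ hsub' ≫ (ξ ∣_ L) = pullback.snd ξ τ ≫ IsOpenImmersion.lift L.ι τ hsub := by
      rw [← cancel_mono L.ι, Category.assoc, morphismRestrict_ι, ← Category.assoc, IsOpenImmersion.lift_fac,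
        Category.assoc, IsOpenImmersion.lift_fac, pullback.condition]
    rw [← Category.assoc, ← e2, Category.assoc, hrL, ← Category.assoc, IsOpenImmersion.lift_fac]

include h0 in
theorem isClosed_collapsed [Flat ξ] [LocallyOfFinitePresentation ξ] (v : Y ⟶ S) [IsSeparated v]
    (hf : f ≫ v = ξ) : IsClosed (collapsed ξ f) := by
  set p₁ := pullback.fst ξ ξ
  set p₂ := pullback.snd ξ ξ
  let m : pullback ξ ξ ⟶ pullback v v := pullback.lift (p₁ ≫ f) (p₂ ≫ f)
    (by rw [Category.assoc, Category.assoc, hf]; exact pullback.condition)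
  let e := pullback.fst m (pullback.diagonal v)
  have hmax : ∀ q : ↥(pullback ξ ξ), (p₁ ≫ ξ) q ∈ collapsed ξ f → q ∈ Set.range e := by
    intro q hq
    set k := (pullback ξ ξ).residueField q
    set i := (pullback ξ ξ).fromSpecResidueField q
    have hall : ∀ t, (i ≫ p₁ ≫ ξ) t ∈ collapsed ξ f := fun t => by
      rw [Scheme.Hom.comp_apply, Scheme.fromSpecResidueField_apply]; exact hq
    obtain ⟨r, -, hr⟩ := (exists_factor_iff ξ h0 f v hf _ (i ≫ p₁ ≫ ξ)).mpr hall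
    have h1 : (i ≫ p₁) ≫ f = r := by
      have := congrArg (fun g => pullback.lift (i ≫ p₁) (𝟙 _) (by simp) ≫ g) hr
      simp only [pullback.lift_fst_assoc, pullback.lift_snd_assoc] at this
      exact this.trans (Category.id_comp r)
    have h2 : (i ≫ p₂) ≫ f = r := by
      have := congrArg (fun g => pullback.lift (i ≫ p₂) (𝟙 _)
        (by rw [Category.assoc, Category.id_comp, pullback.condition]) ≫ g) hr
      simp only [pullback.lift_fst_assoc, pullback.lift_snd_assoc] at this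
      exact this.trans (Category.id_comp r)
    have h3 : i ≫ m = r ≫ pullback.diagonal v := by
      apply pullback.hom_ext
      · simp only [m, Category.assoc, pullback.lift_fst, pullback.diagonal_fst, Category.comp_id]
        exact (Category.assoc _ _ _).symm.trans h1
      · simp only [m, Category.assoc, pullback.lift_snd, pullback.diagonal_snd, Category.comp_id]
        exact (Category.assoc _ _ _).symm.trans h2
    refine ⟨pullback.lift i r h3 (IsLocalRing.closedPoint _), ?_⟩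
    rw [← Scheme.Hom.comp_apply, pullback.lift_fst, Scheme.fromSpecResidueField_apply]
  haveI : UniversallyOpen ξ := inferInstance
  haveI : UniversallyOpen (p₁ ≫ ξ) := inferInstance
  have hopen : IsOpen ((p₁ ≫ ξ) '' (Set.range e)ᶜ) :=
    (p₁ ≫ ξ).isOpenMap _ e.isClosedEmbedding.isClosed_range.isOpen_compl
  have heq : collapsed ξ f = ((p₁ ≫ ξ) '' (Set.range e)ᶜ)ᶜ := by
    ext s
    constructor
    · rintro hs ⟨q, hq, rfl⟩
      exact hq (hmax q hs)
    · intro hs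
      haveI := surjective_of_h0 ξ h0
      obtain ⟨x₀, hx₀⟩ := ξ.surjective s
      refine ⟨f x₀, fun x hx => ?_⟩
      obtain ⟨q, hq1, hq2⟩ := Scheme.Pullback.exists_preimage_pullback (f := ξ) (g := ξ) x x₀ (hx.trans hx₀.symm)
      have hq : q ∈ Set.range e := by
        by_contra hne
        exact hs ⟨q, hne, by rw [Scheme.Hom.comp_apply, hq1]; exact hx⟩
      obtain ⟨z, rfl⟩ := hq
      have hz : (e ≫ p₁ ≫ f) z = (e ≫ p₂ ≫ f) z := by
        have h1 : e ≫ p₁ ≫ f = pullback.snd m (pullback.diagonal v) := by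
          have := congrArg (· ≫ pullback.fst v v) (pullback.condition (f := m) (g := pullback.diagonal v))
          simpa [m, e] using this
        have h2 : e ≫ p₂ ≫ f = pullback.snd m (pullback.diagonal v) := by
          have := congrArg (· ≫ pullback.snd v v) (pullback.condition (f := m) (g := pullback.diagonal v))
          simpa [m, e] using this
        rw [h1, h2]
      simp only [Scheme.Hom.comp_apply] at hz
      rw [← hq1, ← hq2]
      exact hz
  rw [heq]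
  exact hopen.isClosed_compl

end Collapse

end Groth.Agent.RigidRel
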