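import Mathlib.AlgebraicGeometry.Morphisms.Proper
import Mathlib.AlgebraicGeometry.Morphisms.Flat
import Mathlib.AlgebraicGeometry.Geometrically.Connected
import Mathlib.AlgebraicGeometry.Geometrically.Reduced
import Mathlib.AlgebraicGeometry.Properties
import Mathlib.RingTheory.Flat.FaithfullyFlat.Basic
import Mathlib.FieldTheory.IsAlgClosed.AlgebraicClosure

/-!
# Global functions on a proper geometrically connected and geometrically reduced scheme over a field
-/

universe u
open CategoryTheory Limits AlgebraicGeometry TopologicalSpace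

set_option linter.style.haveILetI false

namespace Groth.Agent.RigidRel

theorem surjective_algebraMap_of_integral {K : Type u} [Field K] [IsAlgClosed K] {X : Scheme.{u}}
    [IsReduced X] [ConnectedSpace X] [Algebra K Γ(X, ⊤)] [Algebra.IsIntegral K Γ(X, ⊤)] :
    Function.Surjective (algebraMap K Γ(X, ⊤)) := by
  classical
  intro φ
  obtain ⟨p, hp, hpφ⟩ := Algebra.IsIntegral.isIntegral (R := K) φ
  have hprod : ((p.roots.map fun a => φ - algebraMap K Γ(X, ⊤) a).prod) = 0 := by
    have h := (IsAlgClosed.splits p).eq_prod_roots_of_monic hp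
    rw [← Polynomial.aeval_def, h, map_multiset_prod, Multiset.map_map] at hpφ
    simpa [Function.comp_def] using hpφ
  -- the open set where `φ - a` is invertible
  let O : K → X.Opens := fun a => X.basicOpen (φ - algebraMap K Γ(X, ⊤) a)
  have hdisj : ∀ a b, a ≠ b → O a ⊔ O b = ⊤ := by
    intro a b hab
    ext x
    simp only [Opens.coe_sup, Set.mem_union, Opens.coe_top, Set.mem_univ, iff_true]
    by_contra hx
    push Not at hx
    obtain ⟨h1, h2⟩ := hx
    simp only [SetLike.mem_coe, O, Scheme.mem_basicOpen_top, ← mem_nonunits_iff,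
      ← IsLocalRing.mem_maximalIdeal] at h1 h2
    have h3 := Ideal.sub_mem (IsLocalRing.maximalIdeal (X.presheaf.stalk x)) h2 h1
    rw [← map_sub, sub_sub_sub_cancel_left, ← map_sub, IsLocalRing.mem_maximalIdeal] at h3
    exact h3 (((sub_ne_zero.mpr hab).isUnit.map (algebraMap K Γ(X, ⊤))).map _)
  have hcov : ∀ x : X, ∃ a ∈ p.roots.toFinset, x ∉ O a := by
    intro x
    by_contra hx
    push Not at hx
    have hu : IsUnit (X.presheaf.Γgerm x (p.roots.map fun a => φ - algebraMap K Γ(X, ⊤) a).prod) := by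
      rw [map_multiset_prod, Multiset.map_map]
      refine Submonoid.multiset_prod_mem (IsUnit.submonoid _) _ ?_
      intro y hy
      obtain ⟨a, ha, rfl⟩ := Multiset.mem_map.mp hy
      exact (Scheme.mem_basicOpen_top _ _ _).mp (hx a (Multiset.mem_toFinset.mpr ha))
    rw [hprod, map_zero, isUnit_zero_iff] at hu
    exact zero_ne_one hu
  obtain ⟨a, ha, hx⟩ := hcov (Classical.arbitrary X)
  refine ⟨a, (sub_eq_zero.mp ?_).symm⟩
  rw [← basicOpen_eq_bot_iff]
  -- the complement of `O a` is open
  have hopen : IsOpen ((O a : Set X)ᶜ) := by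
    have : (O a : Set X)ᶜ = ⋂ b ∈ p.roots.toFinset.erase a, (O b : Set X) := by
      ext x
      simp only [Set.mem_compl_iff, Set.mem_iInter, Finset.mem_erase]
      constructor
      · intro hxa b hb
        have := Set.ext_iff.mp (congrArg SetLike.coe (hdisj a b (Ne.symm hb.1))) x
        simp only [Opens.coe_sup, Set.mem_union, Opens.coe_top, Set.mem_univ, iff_true] at this
        exact this.resolve_left hxa
      · intro hall hxa
        obtain ⟨b, hb, hxb⟩ := hcov x
        by_cases hba : b = a
        · exact hxb (hba ▸ hxa)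
        · exact hxb (hall b ⟨hba, hb⟩)
    rw [this]
    exact isOpen_biInter_finset fun b _ => (O b).isOpen
  have hclopen : IsClopen (O a : Set X) := ⟨⟨hopen⟩, (O a).isOpen⟩
  rcases isClopen_iff.mp hclopen with h | h
  · exact Opens.ext h
  · exact absurd (h.symm.subset (Set.mem_univ _)) hx

/-- `Γ(X, O_X) = k` for a proper, geometrically connected and geometrically reduced `X / k`. -/
theorem surjective_appTop {k : Type u} [Field k] {X : Scheme.{u}} (f : X ⟶ Spec (CommRingCat.of k))
    [IsProper f] [GeometricallyConnected f] [GeometricallyReduced f] :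
    Function.Surjective f.appTop.hom := by
  let φ := Spec.map (CommRingCat.ofHom (algebraMap k (AlgebraicClosure k)))
  let g := pullback.fst f φ
  let iY := pullback.snd f φ
  haveI : CompactSpace X := QuasiCompact.compactSpace_of_compactSpace f
  haveI : QuasiSeparatedSpace X := quasiSeparatedSpace_of_quasiSeparated f
  haveI : IsReduced (pullback f φ) := GeometricallyReduced.geometrically_isReduced _ _ _ (IsPullback.of_hasPullback f φ)
  haveI : ConnectedSpace ↥(pullback f φ) :=
    GeometricallyConnected.geometrically_connectedSpace _ _ _ (IsPullback.of_hasPullback f φ)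
  -- over the algebraic closure
  let e := (Scheme.ΓSpecIso (CommRingCat.of (AlgebraicClosure k))).inv
  letI := (e ≫ iY.appTop).hom.toAlgebra
  haveI : Algebra.IsIntegral (AlgebraicClosure k) Γ(pullback f φ, ⊤) := by
    refine ⟨?_⟩
    show (e ≫ iY.appTop).hom.IsIntegral
    apply RingHom.isIntegral_respectsIso.2 (e := (Scheme.ΓSpecIso _).symm.commRingCatIsoToRingEquiv)
    exact isIntegral_appTop_of_universallyClosed iY
  have hK : Function.Surjective iY.appTop.hom := by
    intro y
    obtain ⟨c, hc⟩ := surjective_algebraMap_of_integral (K := AlgebraicClosure k) y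
    exact ⟨_, hc⟩
  -- descend
  have hiso := isIso_pushoutSection_of_isQuasiSeparated_of_flat_right (IsPullback.of_hasPullback f φ)
    (US := ⊤) (UT := ⊤) (UX := ⊤) (UY := ⊤) le_top le_top (by simp) (isAffineOpen_top _) (isAffineOpen_top _)
    (isCompact_univ) (isQuasiSeparated_univ)
  replace hiso := (isIso_pushoutSection_iff (IsPullback.of_hasPullback f φ) le_top le_top (by simp)).mp hiso
  replace hiso : IsPushout f.appTop φ.appTop g.appTop iY.appTop := by
    simp only [Scheme.Hom.appTop, Scheme.Hom.app_eq_appLE]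
    exact hiso
  letI := f.appTop.hom.toAlgebra
  letI := φ.appTop.hom.toAlgebra
  letI := g.appTop.hom.toAlgebra
  letI : Algebra Γ(Spec (CommRingCat.of (AlgebraicClosure k)), ⊤) Γ(pullback f φ, ⊤) := iY.appTop.hom.toAlgebra
  letI : Algebra Γ(Spec (CommRingCat.of k), ⊤) Γ(pullback f φ, ⊤) := (f.appTop ≫ g.appTop).hom.toAlgebra
  haveI : IsScalarTower Γ(Spec (CommRingCat.of k), ⊤) Γ(X, ⊤) Γ(pullback f φ, ⊤) := .of_algebraMap_eq' rfl
  haveI : IsScalarTower Γ(Spec (CommRingCat.of k), ⊤) Γ(Spec (CommRingCat.of (AlgebraicClosure k)), ⊤)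
      Γ(pullback f φ, ⊤) := .of_algebraMap_eq' (congrArg CommRingCat.Hom.hom hiso.w)
  haveI : Algebra.IsPushout Γ(Spec (CommRingCat.of k), ⊤) Γ(X, ⊤)
      Γ(Spec (CommRingCat.of (AlgebraicClosure k)), ⊤) Γ(pullback f φ, ⊤) :=
    CommRingCat.isPushout_iff_isPushout.mp hiso
  haveI : Algebra.IsPushout Γ(Spec (CommRingCat.of k), ⊤) Γ(Spec (CommRingCat.of (AlgebraicClosure k)), ⊤)
      Γ(X, ⊤) Γ(pullback f φ, ⊤) := Algebra.IsPushout.symm inferInstance
  letI := ((Scheme.ΓSpecIso (CommRingCat.of k)).commRingCatIsoToRingEquiv.toMulEquiv.isField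
    (Field.toIsField k)).toField
  haveI : Nontrivial Γ(Spec (CommRingCat.of (AlgebraicClosure k)), ⊤) :=
    (Scheme.ΓSpecIso (CommRingCat.of (AlgebraicClosure k))).commRingCatIsoToRingEquiv.nontrivial
  show Function.Surjective (Algebra.linearMap Γ(Spec (CommRingCat.of k), ⊤) Γ(X, ⊤))
  rw [← Module.FaithfullyFlat.lTensor_surjective_iff_surjective _
    Γ(Spec (CommRingCat.of (AlgebraicClosure k)), ⊤)]
  intro z
  obtain ⟨c, hc⟩ := hK (Algebra.IsPushout.equiv Γ(Spec (CommRingCat.of k), ⊤)
    Γ(Spec (CommRingCat.of (AlgebraicClosure k)), ⊤) Γ(X, ⊤) Γ(pullback f φ, ⊤) z)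
  refine ⟨TensorProduct.tmul _ c 1, (Algebra.IsPushout.equiv Γ(Spec (CommRingCat.of k), ⊤)
    Γ(Spec (CommRingCat.of (AlgebraicClosure k)), ⊤) Γ(X, ⊤) Γ(pullback f φ, ⊤)).injective ?_⟩
  rw [LinearMap.lTensor_tmul, ← hc, Algebra.linearMap_apply, map_one, Algebra.IsPushout.equiv_tmul, map_one, mul_one]
  rfl

end Groth.Agent.RigidRel
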