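import Groth.Agent.Lib.RigidRel.H0
import Groth.Agent.Lib.RigidRel.Collapse
import Groth.Agent.Lib.RigidRel.Const
import Mathlib.AlgebraicGeometry.Geometrically.Connected
import Mathlib.AlgebraicGeometry.Geometrically.Reduced
import Mathlib.CategoryTheory.Monoidal.Cartesian.Grp_
import Mathlib.CategoryTheory.Monoidal.Cartesian.Over

/-!
# Rigidity for proper flat families over an arbitrary base
-/

universe u
open CategoryTheory Limits AlgebraicGeometry MonoidalCategory CartesianMonoidalCategory MonObj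

set_option linter.style.haveILetI false
set_option backward.isDefEq.respectTransparency false

namespace Groth.Agent.RigidRel

theorem h0_of_geometrically {X S : Scheme.{u}} (ξ : X ⟶ S) [IsProper ξ] [Flat ξ]
    [LocallyOfFinitePresentation ξ] [GeometricallyConnected ξ] [GeometricallyReduced ξ] :
    ∀ U : S.Opens, IsAffineOpen U → Function.Bijective (ξ.app U).hom :=
  fun _ hU => bijective_app' ξ (constFibres_of_geometrically ξ) hU

/-- A morphism that contracts one fibre factors over a clopen neighbourhood. -/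
theorem exists_clopen_factor {S T X Y : Scheme.{u}} (p : T ⟶ S) (q : Y ⟶ S) [IsSeparated q]
    (g : X ⟶ T) [IsProper g] [Flat g] [LocallyOfFinitePresentation g] [GeometricallyConnected g]
    [GeometricallyReduced g] (f : X ⟶ Y) (hf : f ≫ q = g ≫ p) (t : T)
    (ht : (f '' (g ⁻¹' {t})).Subsingleton) :
    ∃ W : T.Opens, IsClosed (W : Set T) ∧ t ∈ W ∧
      ∃ k : (W : Scheme.{u}) ⟶ Y, (g ⁻¹ᵁ W).ι ≫ f = (g ∣_ W) ≫ k := by
  have h0 := h0_of_geometrically g
  let f' : X ⟶ pullback p q := pullback.lift g f hf.symm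
  have hf' : f' ≫ pullback.fst p q = g := pullback.lift_fst _ _ _
  have htc : t ∈ collapsed g f := by
    obtain ⟨x₀, hx₀⟩ := g.surjective t
    exact ⟨f x₀, fun x hx => ht ⟨x, hx, rfl⟩ ⟨x₀, hx₀, rfl⟩⟩
  obtain ⟨U, hU, htU, r, hr⟩ := exists_local_factor g h0 f t htc
  have hrq : r ≫ q = U.ι ≫ p := by
    refine cancel g h0 U _ _ ?_
    rw [← Category.assoc, hr, Category.assoc, hf, morphismRestrict_ι_assoc]
  have htc' : t ∈ collapsed g f' := by
    refine mem_collapsed_of_factor g f' (U := U) (pullback.lift U.ι r hrq.symm) ?_ t htU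
    apply pullback.hom_ext
    · simp only [Category.assoc, pullback.lift_fst, f', morphismRestrict_ι]
    · simp only [Category.assoc, pullback.lift_snd, f', hr]
  let W := collapsedOpen g h0 f'
  obtain ⟨k, hk⟩ := exists_factor g h0 f'
  refine ⟨W, isClosed_collapsed g h0 f' (pullback.fst p q) hf', htc', k ≫ pullback.snd p q, ?_⟩
  rw [← Category.assoc]
  refine Eq.trans ?_ (congrArg (· ≫ pullback.snd p q) hk).symm
  rw [Category.assoc, pullback.lift_snd]

variable {S : Scheme.{u}}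

/-- A morphism contracting all fibres is constant. -/
theorem exists_eq_toUnit_comp (X Z : Over S) [IsProper X.hom] [Flat X.hom]
    [LocallyOfFinitePresentation X.hom] [GeometricallyConnected X.hom] [GeometricallyReduced X.hom]
    (h : X ⟶ Z) (hc : ∀ s, s ∈ collapsed X.hom h.left) : ∃ r : 𝟙_ (Over S) ⟶ Z, h = toUnit X ≫ r := by
  obtain ⟨r, hr, hr'⟩ := (exists_factor_iff X.hom (h0_of_geometrically X.hom) h.left Z.hom (Over.w h) S
    (𝟙 S)).2 fun s => hc s
  refine ⟨Over.homMk r hr, ?_⟩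
  ext1
  have h := congrArg (fun a => pullback.lift (𝟙 X.left) X.hom (by simp) ≫ a) hr'
  simp only [pullback.lift_fst_assoc, pullback.lift_snd_assoc, Category.id_comp] at h
  exact h

theorem exists_lift_left_eq {X Y : Over S} (y₀ : 𝟙_ (Over S) ⟶ Y) (p : (X ⊗ Y).left) (s : S)
    (hp : (snd X Y).left p = y₀.left s) : ∃ x, (lift (𝟙 X) (toUnit X ≫ y₀)).left x = p := by
  obtain ⟨z, hz, -⟩ := Scheme.Pullback.exists_preimage_pullback (f := (snd X Y).left) (g := y₀.left) p s hp
  refine ⟨(pullback.fst (snd X Y).left y₀.left ≫ (fst X Y).left) z, ?_⟩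
  rw [← hz, ← Scheme.Hom.comp_apply]
  refine congrArg (fun a : pullback (snd X Y).left y₀.left ⟶ (X ⊗ Y).left => a z) ?_
  have hsnd : pullback.fst (snd X Y).left y₀.left ≫ (snd X Y).left = pullback.snd _ _ ≫ y₀.left := pullback.condition
  apply pullback.hom_ext
  · show _ ≫ (lift (𝟙 X) (toUnit X ≫ y₀)).left ≫ (fst X Y).left = _ ≫ (fst X Y).left
    rw [← Over.comp_left, lift_fst, Over.id_left, Category.comp_id]
  · show _ ≫ (lift (𝟙 X) (toUnit X ≫ y₀)).left ≫ (snd X Y).left = _ ≫ (snd X Y).left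
    have e : (fst X Y).left ≫ X.hom = (snd X Y).left ≫ Y.hom := (Over.w (fst X Y)).trans (Over.w (snd X Y)).symm
    have hy : y₀.left ≫ Y.hom = 𝟙 S := Over.w y₀
    rw [← Over.comp_left, lift_snd, Over.comp_left, Over.toUnit_left, hsnd, Category.assoc,
      reassoc_of% e, reassoc_of% hsnd, reassoc_of% hy]
    erw [Category.id_comp]

/-- Rigidity in two variables over an arbitrary base. -/
theorem eq_snd_comp_of_slice (X Y Z : Over S) [IsProper X.hom] [Flat X.hom]
    [LocallyOfFinitePresentation X.hom] [GeometricallyConnected X.hom] [GeometricallyReduced X.hom]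
    [GeometricallyConnected Y.hom] [IsSeparated Z.hom] (h : X ⊗ Y ⟶ Z)
    (x₀ : 𝟙_ (Over S) ⟶ X) (y₀ : 𝟙_ (Over S) ⟶ Y) (z₀ : 𝟙_ (Over S) ⟶ Z)
    (hX : lift (𝟙 X) (toUnit X ≫ y₀) ≫ h = toUnit X ≫ z₀) :
    h = snd X Y ≫ lift (toUnit Y ≫ x₀) (𝟙 Y) ≫ h := by
  let ξ : (X ⊗ Y).left ⟶ Y.left := (snd X Y).left
  haveI : IsProper ξ := inferInstanceAs (IsProper (pullback.snd X.hom Y.hom))
  haveI : Flat ξ := inferInstanceAs (Flat (pullback.snd X.hom Y.hom))
  haveI : LocallyOfFinitePresentation ξ :=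
    inferInstanceAs (LocallyOfFinitePresentation (pullback.snd X.hom Y.hom))
  haveI : GeometricallyConnected ξ := inferInstanceAs (GeometricallyConnected (pullback.snd X.hom Y.hom))
  haveI : GeometricallyReduced ξ := inferInstanceAs (GeometricallyReduced (pullback.snd X.hom Y.hom))
  have h0 := h0_of_geometrically ξ
  have hw : h.left ≫ Z.hom = ξ ≫ Y.hom := (Over.w h).trans (Over.w (snd X Y)).symm
  let h' : (X ⊗ Y).left ⟶ pullback Z.hom Y.hom := pullback.lift h.left ξ hw
  have hv : h' ≫ pullback.snd Z.hom Y.hom = ξ := pullback.lift_snd _ _ _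
  -- the points of the section are collapsed
  let w : S ⟶ pullback Z.hom Y.hom := pullback.lift z₀.left y₀.left ((Over.w z₀).trans (Over.w y₀).symm)
  have hσ : (lift (𝟙 X) (toUnit X ≫ y₀)).left ≫ h' = X.hom ≫ w := by
    apply pullback.hom_ext
    · simp only [Category.assoc, h', w, pullback.lift_fst]
      rw [← Over.comp_left, hX, Over.comp_left, Over.toUnit_left]
    · simp only [Category.assoc, h', w, pullback.lift_snd, ξ]
      rw [← Over.comp_left, lift_snd, Over.comp_left, Over.toUnit_left]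
  have hy₀ : ∀ s, y₀.left s ∈ collapsed ξ h' := fun s => by
    refine ⟨w s, fun p hp => ?_⟩
    obtain ⟨x, rfl⟩ := exists_lift_left_eq y₀ p s hp
    rw [← Scheme.Hom.comp_apply, hσ, Scheme.Hom.comp_apply]
    refine congrArg w ?_
    have := congrArg Y.hom hp
    rw [← Scheme.Hom.comp_apply (lift (𝟙 X) (toUnit X ≫ y₀)).left, ← Over.comp_left, lift_snd,
      ← Scheme.Hom.comp_apply, ← Scheme.Hom.comp_apply, Over.comp_left, Over.toUnit_left] at this
    have hy : y₀.left ≫ Y.hom = 𝟙 S := Over.w y₀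
    rw [Category.assoc, hy] at this
    simpa using this
  have hcl : IsClopen (collapsed ξ h') :=
    ⟨isClosed_collapsed ξ h0 h' (pullback.snd Z.hom Y.hom) hv, isOpen_collapsed ξ h0 h'⟩
  have hall : ∀ y, y ∈ collapsed ξ h' := fun y => by
    refine (Scheme.Hom.isConnected_preimage_singleton (f := Y.hom) (Y.hom y)).isPreconnected.subset_isClopen
      hcl ⟨y₀.left (Y.hom y), ?_, hy₀ _⟩ (show y ∈ Y.hom ⁻¹' {Y.hom y} from rfl)
    show Y.hom (y₀.left (Y.hom y)) = Y.hom y
    rw [← Scheme.Hom.comp_apply]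
    exact congrArg (fun a : S ⟶ S => a (Y.hom y)) (Over.w y₀)
  obtain ⟨r, hr, hr'⟩ := (exists_factor_iff ξ h0 h' (pullback.snd Z.hom Y.hom) hv Y.left (𝟙 Y.left)).2
    fun y => hall y
  have h2 := congrArg (fun a => pullback.lift (𝟙 (X ⊗ Y).left) ξ (by simp) ≫ a ≫ pullback.fst Z.hom Y.hom) hr'
  simp only [Category.assoc, pullback.lift_fst_assoc, pullback.lift_snd_assoc, Category.id_comp, h',
    pullback.lift_fst] at h2
  let r' : Y ⟶ Z := Over.homMk (r ≫ pullback.fst Z.hom Y.hom) (by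
    simp only [Category.assoc, pullback.condition]
    rw [reassoc_of% hr])
  have h3 : h = snd X Y ≫ r' := by ext1; exact h2
  conv_rhs => rw [h3, ← Category.assoc (lift _ _), lift_snd, Category.id_comp]
  exact h3

/-- A morphism of pointed proper flat families with geometrically connected reduced fibres into a separated
group is determined by its restrictions to the axes. -/
theorem eq_mul_of_axes (X Y A : Over S) [IsProper X.hom] [Flat X.hom]
    [LocallyOfFinitePresentation X.hom] [GeometricallyConnected X.hom] [GeometricallyReduced X.hom]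
    [GeometricallyConnected Y.hom] [GrpObj A] [IsSeparated A.hom] (h : X ⊗ Y ⟶ A)
    (x₀ : 𝟙_ (Over S) ⟶ X) (y₀ : 𝟙_ (Over S) ⟶ Y) (h0 : lift x₀ y₀ ≫ h = η[A]) :
    h = (fst X Y ≫ lift (𝟙 X) (toUnit X ≫ y₀) ≫ h) * (snd X Y ≫ lift (toUnit Y ≫ x₀) (𝟙 Y) ≫ h) := by
  set p : X ⟶ A := lift (𝟙 X) (toUnit X ≫ y₀) ≫ h with hp
  set q : Y ⟶ A := lift (toUnit Y ≫ x₀) (𝟙 Y) ≫ h with hq
  have h0' : lift x₀ y₀ ≫ h = 1 := by rw [h0, one_eq_one]
  have ex : x₀ ≫ p = 1 := by
    rw [hp, ← Category.assoc, comp_lift, Category.comp_id, ← Category.assoc, toUnit_unique (x₀ ≫ toUnit X) (𝟙 _),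
      Category.id_comp, h0']
  have ey : y₀ ≫ q = 1 := by
    rw [hq, ← Category.assoc, comp_lift, Category.comp_id, ← Category.assoc, toUnit_unique (y₀ ≫ toUnit Y) (𝟙 _),
      Category.id_comp, h0']
  have e := eq_snd_comp_of_slice X Y A ((fst X Y ≫ p)⁻¹ * h * (snd X Y ≫ q)⁻¹) x₀ y₀ η[A] ?_
  · have e2 : lift (toUnit Y ≫ x₀) (𝟙 Y) ≫ ((fst X Y ≫ p)⁻¹ * h * (snd X Y ≫ q)⁻¹) = 1 := by
      simp only [comp_mul, GrpObj.comp_inv, lift_fst_assoc, lift_snd_assoc, Category.id_comp, ← hq,
        Category.assoc, ex, comp_one, inv_one, _root_.one_mul, mul_inv_cancel]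
    rw [e2, comp_one] at e
    calc h = (fst X Y ≫ p) * ((fst X Y ≫ p)⁻¹ * h * (snd X Y ≫ q)⁻¹) * (snd X Y ≫ q) := by group
      _ = _ := by rw [e, _root_.mul_one]
  · simp only [comp_mul, GrpObj.comp_inv, lift_fst_assoc, lift_snd_assoc, Category.id_comp, ← hp,
      Category.assoc, ey, one_eq_one, comp_one, inv_one, _root_.mul_one, inv_mul_cancel]

/-- A pointed morphism into a separated group is a homomorphism. -/
theorem isMonHom_of_one (A B : Over S) [GrpObj A] [IsProper A.hom] [Flat A.hom]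
    [LocallyOfFinitePresentation A.hom] [GeometricallyConnected A.hom] [GeometricallyReduced A.hom]
    [GrpObj B] [IsSeparated B.hom] (f : A ⟶ B) (hf : η[A] ≫ f = η[B]) : IsMonHom f := by
  refine ⟨hf, ?_⟩
  have h := eq_mul_of_axes A A B (μ[A] ≫ f) η[A] η[A] (by
    rw [← Category.assoc, show lift η[A] η[A] ≫ μ[A] = η[A] from by
      rw [← Hom.mul_def, one_eq_one, _root_.mul_one], hf])
  rw [h]
  have e1 : lift (𝟙 A) (toUnit A ≫ η[A]) ≫ μ[A] ≫ f = f := by
    rw [← Category.assoc, lift_comp_one_right, Category.id_comp]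
  have e2 : lift (toUnit A ≫ η[A]) (𝟙 A) ≫ μ[A] ≫ f = f := by
    rw [← Category.assoc, lift_comp_one_left, Category.id_comp]
  rw [e1, e2, Hom.mul_def, lift_fst_comp_snd_comp]

end Groth.Agent.RigidRel
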