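import Groth.Agent.Lib.RigidRel.H0
import Groth.Agent.Lib.RigidRel.Const
import Mathlib.AlgebraicGeometry.Morphisms.SchemeTheoreticallyDominant
import Mathlib.AlgebraicGeometry.Morphisms.FlatMono
import Mathlib.FieldTheory.IsAlgClosed.AlgebraicClosure

/-!
# `ξ_* O_X = O_S`: criteria on geometric fibres, all opens
-/

set_option linter.style.haveILetI false
set_option backward.isDefEq.respectTransparency false

universe u

open CategoryTheory Limits AlgebraicGeometry TopologicalSpace Opposite

namespace Groth.Agent.RigidRel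

theorem geometricallyConnected_and_reduced_of_isAlgClosed {X S : Scheme.{u}} (f : X ⟶ S) [QuasiCompact f]
    (h : ∀ (K : Type u) [Field K] [IsAlgClosed K] (y : Spec (CommRingCat.of K) ⟶ S),
      IsReduced (pullback f y) ∧ ConnectedSpace ↥(pullback f y)) :
    GeometricallyConnected f ∧ GeometricallyReduced f := by
  suffices H : ∀ (K : Type u) [Field K] (y : Spec (CommRingCat.of K) ⟶ S) (Z : Scheme.{u}) (fst : Z ⟶ X)
      (snd : Z ⟶ Spec (CommRingCat.of K)), IsPullback fst snd f y → IsReduced Z ∧ ConnectedSpace Z from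
    ⟨⟨fun K _ y Z fst snd hpb => (H K y Z fst snd hpb).2⟩, ⟨fun K _ y Z fst snd hpb => (H K y Z fst snd hpb).1⟩⟩
  intro K _ y Z fst snd hpb
  let Kb := AlgebraicClosure K
  let ρ := Spec.map (CommRingCat.ofHom (algebraMap K Kb))
  haveI : QuasiCompact snd := MorphismProperty.of_isPullback hpb inferInstance
  let W := pullback snd ρ
  obtain ⟨hred, hconn⟩ := h Kb (ρ ≫ y)
  let e : W ≅ pullback f (ρ ≫ y) := ((IsPullback.of_hasPullback snd ρ).paste_horiz hpb).isoPullback
  haveI : IsReduced W := isReduced_of_isOpenImmersion e.hom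
  haveI : ConnectedSpace W := e.hom.homeomorph.connectedSpace_iff.2 hconn
  let π : W ⟶ Z := pullback.fst snd ρ
  haveI : Surjective ρ := ⟨Function.surjective_to_subsingleton (α := Spec (CommRingCat.of Kb)) (β := Spec (CommRingCat.of K)) _⟩
  haveI : Surjective π := inferInstanceAs (Surjective (pullback.fst snd ρ))
  haveI : IsSchemeTheoreticallyDominant ρ := IsSchemeTheoreticallyDominant.of_isDominant ρ
  haveI : Flat snd := inferInstance
  haveI : IsSchemeTheoreticallyDominant π := inferInstance
  exact ⟨IsSchemeTheoreticallyDominant.isReduced π, π.surjective.connectedSpace π.continuous⟩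

theorem surjective_of_fibre {X S : Scheme.{u}} (f : X ⟶ S)
    (h : ∀ s : S, Function.Injective (f.fiberToSpecResidueField s).appTop.hom) : Surjective f := by
  refine ⟨fun t => ?_⟩
  have hne : Nonempty (f.fiber t) := by
    by_contra hne
    rw [not_nonempty_iff] at hne
    haveI : Subsingleton Γ(f.fiber t, ⊤) := CommRingCat.subsingleton_of_isTerminal
      (Scheme.sheaf _ |>.isTerminalOfEqEmpty (Subsingleton.elim _ _))
    haveI : Subsingleton (S.residueField t) :=
      ((h t).comp (Scheme.ΓSpecIso _).symm.commRingCatIsoToRingEquiv.injective).subsingleton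
    exact not_subsingleton (S.residueField t) inferInstance
  refine ⟨f.fiberι t hne.some, ?_⟩
  have : f.fiberι t hne.some ∈ Set.range (f.fiberι t) := ⟨_, rfl⟩
  rw [Scheme.Hom.range_fiberι] at this
  exact this

theorem isIso_app_of_bijective {X S : Scheme.{u}} (f : X ⟶ S)
    (h : ∀ U : S.Opens, IsAffineOpen U → Function.Bijective (f.app U).hom) (V : S.Opens) : IsIso (f.app V) := by
  have hres : ∀ {U W : S.Opens} (hWU : W ≤ U) (a : Γ(S, U)), f.app W (S.presheaf.map (homOfLE hWU).op a) =
      X.presheaf.map (homOfLE (f.preimage_mono hWU)).op (f.app U a) := fun hWU a =>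
    ConcreteCategory.congr_hom (f.naturality (homOfLE hWU).op) a
  have inj : ∀ V : S.Opens, Function.Injective (f.app V).hom := by
    intro V a b hab
    choose U hU hmem hle using fun s : V => exists_isAffineOpen_mem_and_subset (X := S) (x := s.1) (U := V) s.2
    refine S.sheaf.eq_of_locally_eq' U V (fun s => homOfLE (hle s))
      (fun s hs => Opens.mem_iSup.2 ⟨⟨s, hs⟩, hmem _⟩) a b fun s => (h _ (hU s)).1 ?_
    exact (hres (hle s) a).trans ((congrArg _ hab).trans (hres (hle s) b).symm)
  have surj : Function.Surjective (f.app V).hom := by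
    intro x
    choose U hU hmem hle using fun s : V => exists_isAffineOpen_mem_and_subset (X := S) (x := s.1) (U := V) s.2
    choose a ha using fun s : V => (h _ (hU s)).2 (X.presheaf.map (homOfLE (f.preimage_mono (hle s))).op x)
    have hc : TopCat.Presheaf.IsCompatible S.sheaf.1 U a := by
      intro i k
      refine inj _ ?_
      show f.app (U i ⊓ U k) (S.presheaf.map _ (a i)) = f.app (U i ⊓ U k) (S.presheaf.map _ (a k))
      refine (hres inf_le_left (a i)).trans ?_
      refine Eq.trans ?_ (hres inf_le_right (a k)).symm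
      rw [ha, ha, ← ConcreteCategory.comp_apply, ← ConcreteCategory.comp_apply, ← Functor.map_comp,
        ← Functor.map_comp]
      rfl
    obtain ⟨g, hg, -⟩ := S.sheaf.existsUnique_gluing' U V (fun s => homOfLE (hle s))
      (fun s hs => Opens.mem_iSup.2 ⟨⟨s, hs⟩, hmem _⟩) a hc
    refine ⟨g, X.sheaf.eq_of_locally_eq' (fun s => f ⁻¹ᵁ U s) _ (fun s => homOfLE (f.preimage_mono (hle s)))
      (fun y hy => Opens.mem_iSup.2 ⟨⟨f y, hy⟩, hmem ⟨f y, hy⟩⟩) _ _ fun s => ?_⟩
    refine (hres (hle s) g).symm.trans ?_
    exact (congrArg _ (hg s)).trans (ha s)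
  exact (ConcreteCategory.isIso_iff_bijective _).mpr ⟨inj V, surj⟩

end Groth.Agent.RigidRel
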