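import Groth.Agent.Lib.RigidRel.AbSch
import Groth.Agent.Lib.SGA7Torsion.Infinitesimal
import Groth.Agent.Lib.AbRigid.Connected
import Groth.Agent.Lib.AbRigid.Isogeny
import Groth.Agent.Lib.FlatH4.SmoothFibres
import Groth.Agent.Lib.SchBasic.Basic
import Groth.Agent.Lib.Cartier.Smooth
import Mathlib.AlgebraicGeometry.Morphisms.Etale
import Mathlib.AlgebraicGeometry.Morphisms.FormallyUnramified
import Mathlib.AlgebraicGeometry.ZariskisMainTheorem

/-!
# Multiplication by an invertible integer on a commutative group scheme
-/

open CategoryTheory Limits AlgebraicGeometry MonoidalCategory CartesianMonoidalCategory MonObj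
open scoped CategoryTheory.Obj

set_option linter.style.haveILetI false
set_option backward.isDefEq.respectTransparency false

namespace Groth.Agent.MulEtale

universe u

/-- Unramified morphisms of schemes are locally quasi-finite. -/
theorem locallyQuasiFinite_of_unramified {X Y : Scheme.{u}} (f : X ⟶ Y) [LocallyOfFiniteType f]
    [FormallyUnramified f] : LocallyQuasiFinite f := by
  rw [HasRingHomProperty.iff_appLE (P := @LocallyQuasiFinite)]
  intro U V e
  have h₁ := HasRingHomProperty.appLE (P := @LocallyOfFiniteType) f inferInstance U V e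
  have h₂ := HasRingHomProperty.appLE (P := @FormallyUnramified) f inferInstance U V e
  algebraize [(f.appLE U V e).hom]
  exact RingHom.quasiFinite_algebraMap.2
    ⟨fun p _ => Algebra.FormallyUnramified.finite_of_free p.ResidueField
      (TensorProduct Γ(Y, U.1) p.ResidueField Γ(X, V.1))⟩

variable {S : Scheme.{u}} (X : Over S) [GrpObj X] [IsCommMonObj X]

/-- Two points over a local scheme with the same `n`-th power and the same reduction are equal. -/
theorem eq_of_zpow_eq [LocallyOfFiniteType X.hom] {W : CommRingCat.{u}} [IsLocalRing W] (t : Spec W ⟶ S)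
    (a b : Over.mk t ⟶ X) (n : ℤ) (hn : IsUnit (n : W)) (hab : a ^ n = b ^ n)
    (hc : Spec.map (CommRingCat.ofHom (IsLocalRing.residue W)) ≫ a.left =
      Spec.map (CommRingCat.ofHom (IsLocalRing.residue W)) ≫ b.left) : a = b := by
  letI : CommGroup (Over.mk t ⟶ X) := Hom.commGroup
  let d : Over.mk t ⟶ X := a * b⁻¹
  suffices hd1 : d = 1 from mul_inv_eq_one.1 hd1
  have hd : d ^ n = 1 := by
    simp only [d, mul_zpow, inv_zpow, hab, mul_inv_cancel]
  let F := Over.pullback t
  let B := F.obj X
  haveI : LocallyOfFiniteType B.hom := inferInstanceAs (LocallyOfFiniteType (pullback.snd X.hom t))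
  let f₀ := Spec.map (CommRingCat.ofHom (algebraMap W W))
  have hf₀ : f₀ = 𝟙 (Spec W) := by
    simp only [f₀, Algebra.algebraMap_self]
    exact Spec.map_id _
  let σ : SGA7Torsion.specOver W W ⟶ F.obj (Over.mk t) := Over.homMk (pullback.lift f₀ f₀ rfl) (by
    exact pullback.lift_snd _ _ _)
  have hfst : ∀ x : Over.mk t ⟶ X, σ.left ≫ (F.map x).left ≫ pullback.fst X.hom t = x.left := fun x => by
    simp [σ, F, hf₀]
    exact Category.id_comp _
  have hn' : IsUnit ((n.natAbs : ℕ) : W) := by
    rcases Int.natAbs_eq n with h | h <;> rw [h] at hn <;> simpa using hn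
  have hone : σ ≫ F.map (1 : Over.mk t ⟶ X) = 1 := by rw [F.map_one, comp_one]
  have h1 := SGA7Torsion.eq_one_of_pow_eq_one B (σ ≫ F.map d) n.natAbs hn' (by
    have hd' : d ^ n.natAbs = 1 := by
      rcases Int.natAbs_eq n with h | h <;> rw [h] at hd
      · simpa using hd
      · simpa using hd
    rw [← comp_pow, show F.map d ^ n.natAbs = F.map (d ^ n.natAbs) from (map_pow F.homMonoidHom d _).symm,
      hd', hone]) (by
    refine Eq.trans ?_ (show SGA7Torsion.specHom (Ideal.Quotient.mkₐ W (IsLocalRing.maximalIdeal W)) ≫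
      σ ≫ F.map (1 : Over.mk t ⟶ X) = 1 by rw [hone, comp_one])
    ext1
    apply pullback.hom_ext
    swap
    · exact (Over.w _).trans (Over.w _).symm
    simp only [Over.comp_left, Category.assoc]
    refine (congrArg (_ ≫ ·) (hfst d)).trans (Eq.trans ?_ (congrArg (_ ≫ ·) (hfst 1)).symm)
    let q : Over.mk (Spec.map (CommRingCat.ofHom (IsLocalRing.residue W)) ≫ t) ⟶ Over.mk t :=
      Over.homMk (Spec.map (CommRingCat.ofHom (IsLocalRing.residue W))) rfl
    have hq : q ≫ a = q ≫ b := by ext1; exact hc
    have hqd : q ≫ d = q ≫ 1 := by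
      simp only [d, comp_mul, GrpObj.comp_inv, hq, mul_inv_cancel, comp_one]
    exact congrArg (fun x => x.left) hqd)
  ext1
  rw [← hfst d, ← hfst 1, ← Over.comp_left_assoc, ← Over.comp_left_assoc, h1, hone]

/-- Multiplication by an invertible integer is formally unramified. -/
theorem formallyUnramified_zpow [LocallyOfFiniteType X.hom] [IsSeparated X.hom] (n : ℤ)
    (hn : IsUnit (n : Γ(S, ⊤))) : FormallyUnramified (𝟙 X ^ n).left := by
  set f : X.left ⟶ X.left := (𝟙 X ^ n).left with hf
  have hfw : f ≫ X.hom = X.hom := Over.w _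
  haveI : IsSeparated (f ≫ X.hom) := by rw [hfw]; infer_instance
  haveI : LocallyOfFiniteType (f ≫ X.hom) := by rw [hfw]; infer_instance
  haveI : IsSeparated f := IsSeparated.of_comp f X.hom
  haveI : LocallyOfFiniteType f := locallyOfFiniteType_of_comp f X.hom
  set Δ := pullback.diagonal f with hΔ
  haveI : IsClosedImmersion Δ := inferInstance
  haveI : LocallyOfFinitePresentation (Δ ≫ pullback.fst f f) := by
    rw [hΔ, pullback.diagonal_fst]; infer_instance
  haveI : LocallyOfFinitePresentation Δ :=
    SchBasic.locallyOfFinitePresentation_of_comp Δ (pullback.fst f f)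
  haveI : Flat Δ := by
    refine Flat.of_stalkMap _ fun x => ?_
    suffices Function.Bijective (Δ.stalkMap x).hom from RingHom.Flat.of_bijective this
    refine ⟨?_, Δ.stalkMap_surjective x⟩
    let k := Δ x
    let P := pullback f f
    let W := P.presheaf.stalk k
    let t : Spec W ⟶ S := P.fromSpecStalk k ≫ pullback.fst f f ≫ X.hom
    let a : Over.mk t ⟶ X := Over.homMk (P.fromSpecStalk k ≫ pullback.fst f f) (by simp [t])
    let b : Over.mk t ⟶ X := Over.homMk (P.fromSpecStalk k ≫ pullback.snd f f) (by
      show (_ ≫ _) ≫ X.hom = P.fromSpecStalk k ≫ pullback.fst f f ≫ X.hom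
      rw [Category.assoc]
      congr 1
      conv_lhs => rw [← hfw, ← Category.assoc, ← pullback.condition, Category.assoc, hfw])
    have hab : a ^ n = b ^ n := by
      rw [← Category.comp_id a, ← Category.comp_id b, ← GrpObj.comp_zpow, ← GrpObj.comp_zpow]
      ext1
      simp only [Over.comp_left, a, b, Over.homMk_left, Category.assoc, ← hf, pullback.condition]
    have hunit : IsUnit (n : W) := by
      have := hn.map (((pullback.fst f f ≫ X.hom).appTop ≫ P.presheaf.germ ⊤ k trivial).hom)
      rwa [map_intCast] at this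
    have heq := eq_of_zpow_eq X t a b n hunit hab (by
      show Spec.map (P.residue k) ≫ P.fromSpecStalk k ≫ pullback.fst f f =
        Spec.map (P.residue k) ≫ P.fromSpecStalk k ≫ pullback.snd f f
      simp only [← Category.assoc]
      show P.fromSpecResidueField k ≫ _ = P.fromSpecResidueField k ≫ _
      rw [← cancel_epi (Spec.map (Δ.residueFieldMap x)), ← Category.assoc, ← Category.assoc (Spec.map _)]
      erw [Scheme.Hom.SpecMap_residueFieldMap_fromSpecResidueField]
      rw [Category.assoc, Category.assoc, pullback.diagonal_fst, pullback.diagonal_snd])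
    have heq' : P.fromSpecStalk k ≫ pullback.fst f f = P.fromSpecStalk k ≫ pullback.snd f f :=
      congrArg (fun y => y.left) heq
    let u : Spec W ⟶ X.left := P.fromSpecStalk k ≫ pullback.fst f f
    have hu : P.fromSpecStalk k = u ≫ Δ := by
      apply pullback.hom_ext
      · simp only [u, Category.assoc, hΔ, pullback.diagonal_fst, Category.comp_id]
      · simp only [u, Category.assoc, hΔ, pullback.diagonal_snd, Category.comp_id, heq']
    have hux : u (IsLocalRing.closedPoint W) = x := by
      show (P.fromSpecStalk k ≫ pullback.fst f f) _ = x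
      rw [Scheme.Hom.comp_apply, Scheme.fromSpecStalk_closedPoint]
      show (Δ ≫ pullback.fst f f) x = x
      rw [hΔ, pullback.diagonal_fst]
      rfl
    obtain ⟨φ, hφ⟩ : ∃ φ : X.left.presheaf.stalk x ⟶ W, Spec.map φ ≫ X.left.fromSpecStalk x = u :=
      Cartier.exists_factor (R := W) u x hux
    have hid : Δ.stalkMap x ≫ φ = 𝟙 W := by
      apply Spec.map_injective
      rw [← cancel_mono (P.fromSpecStalk k), Spec.map_comp, Category.assoc,
        Scheme.SpecMap_stalkMap_fromSpecStalk, reassoc_of% hφ, ← hu, Spec.map_id, Category.id_comp]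
    intro p q hpq
    have h2 := congrArg φ hpq
    have e : ∀ r, φ (Δ.stalkMap x r) = r := fun r => ConcreteCategory.congr_hom hid r
    exact (e p).symm.trans (h2.trans (e q))
  haveI : IsOpenImmersion (pullback.diagonal f) := IsOpenImmersion.of_flat_of_mono _
  infer_instance

/-- Multiplication by an invertible integer on an abelian scheme is finite étale. -/
theorem isFinite_and_etale_zpow [IsProper X.hom] [Flat X.hom] [LocallyOfFinitePresentation X.hom]
    [GeometricallyReduced X.hom] [GeometricallyConnected X.hom] (n : ℤ) (hn : IsUnit (n : Γ(S, ⊤))) :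
    IsFinite (𝟙 X ^ n).left ∧ Etale (𝟙 X ^ n).left ∧ Surjective (𝟙 X ^ n).left := by
  haveI := formallyUnramified_zpow X n hn
  haveI hmon : IsMonHom (𝟙 X ^ n) := RigidRel.isMonHom_of_one X X _ (by
    rw [GrpObj.comp_zpow, Category.comp_id, one_eq_one, one_zpow])
  set f := (𝟙 X ^ n).left
  have hfw : f ≫ X.hom = X.hom := Over.w _
  haveI : IsProper (f ≫ X.hom) := by rw [hfw]; infer_instance
  haveI : Flat (f ≫ X.hom) := by rw [hfw]; infer_instance
  haveI : LocallyOfFinitePresentation (f ≫ X.hom) := by rw [hfw]; infer_instance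
  haveI : IsProper f := .of_comp f X.hom
  haveI : LocallyOfFinitePresentation f := SchBasic.locallyOfFinitePresentation_of_comp f X.hom
  haveI : LocallyQuasiFinite f := locallyQuasiFinite_of_unramified f
  haveI : IsFinite f := IsFinite.of_isProper_of_locallyQuasiFinite f
  have hfib : ∀ s, Flat (pullback.snd f (pullback.fst X.hom (S.fromSpecResidueField s))) ∧
      Surjective (pullback.snd f (pullback.fst X.hom (S.fromSpecResidueField s))) := fun s => by
    let F := Over.pullback (S.fromSpecResidueField s)
    let Y := F.obj X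
    letI : GrpObj Y := Functor.grpObjObj
    haveI : IsProper Y.hom := inferInstanceAs (IsProper (pullback.snd X.hom (S.fromSpecResidueField s)))
    haveI : GeometricallyReduced Y.hom :=
      inferInstanceAs (GeometricallyReduced (pullback.snd X.hom (S.fromSpecResidueField s)))
    haveI : ConnectedSpace Y.left := inferInstanceAs (ConnectedSpace (X.hom.fiber s))
    haveI : GeometricallyIntegral Y.hom := AbRigid.geometricallyIntegral_of_connected Y
    haveI : IsLocallyNoetherian Y.left := LocallyOfFiniteType.isLocallyNoetherian Y.hom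
    haveI : IsIntegral Y.left := GeometricallyIntegral.isIntegral_of_subsingleton Y.hom
    let g : Y ⟶ Y := F.map (𝟙 X ^ n)
    haveI : IsMonHom g := inferInstance
    have hsq : IsPullback (pullback.fst X.hom (S.fromSpecResidueField s)) g.left f
        (pullback.fst X.hom (S.fromSpecResidueField s)) := by
      refine IsPullback.of_bot ?_ ?_ (IsPullback.of_hasPullback X.hom (S.fromSpecResidueField s))
      · have h2 : g.left ≫ pullback.snd X.hom (S.fromSpecResidueField s) = pullback.snd X.hom _ := Over.w g
        rw [hfw, h2]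
        exact IsPullback.of_hasPullback _ _
      · simp [g, F, f]
    haveI : IsFinite g.left := MorphismProperty.of_isPullback hsq (inferInstanceAs (IsFinite f))
    haveI : Surjective g.left := AbRigid.surjective_of_isFinite Y Y g rfl
    have hg : Flat g.left := AbRigid.flat_of_surjective Y Y g
    rw [← hsq.isoPullback_inv_snd]
    exact ⟨MorphismProperty.comp_mem _ _ _ inferInstance hg, inferInstance⟩
  haveI hflat : Flat f := FlatH4.flat_of_fibres f X.hom fun s => (hfib s).1
  refine ⟨inferInstance, Etale.of_formallyUnramified_of_flat f, ⟨fun x => ?_⟩⟩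
  obtain ⟨s, hs⟩ : ∃ s : S, X.hom x = s := ⟨_, rfl⟩
  obtain ⟨y, rfl⟩ : x ∈ Set.range (pullback.fst X.hom (S.fromSpecResidueField s)) := by
    rw [Scheme.Pullback.range_fst, Scheme.range_fromSpecResidueField]; exact hs
  obtain ⟨z, rfl⟩ := (hfib s).2.surj y
  refine ⟨pullback.fst f _ z, ?_⟩
  rw [← Scheme.Hom.comp_apply, ← Scheme.Hom.comp_apply, pullback.condition]

end Groth.Agent.MulEtale
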