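import Groth.Agent.Lib.RigidRel.Local
import Groth.Agent.Lib.RigidRel.Const
import Mathlib.AlgebraicGeometry.ResidueField
import Mathlib.AlgebraicGeometry.Fiber
import Mathlib.RingTheory.RingHom.Surjective
import Mathlib.RingTheory.Localization.BaseChange

/-!
# `ξ_* O_X = O_S` for a proper flat morphism with constant functions on the fibres
-/

universe u
open CategoryTheory Limits AlgebraicGeometry TopologicalSpace Opposite

set_option linter.style.haveILetI false
set_option backward.isDefEq.respectTransparency false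

namespace Groth.Agent.RigidRel

theorem surjective_of_isPushout {A B C D : CommRingCat.{u}} {f : A ⟶ B} {g : A ⟶ C} {f' : B ⟶ D}
    {g' : C ⟶ D} (h : IsPushout f g f' g') (hf : Function.Surjective f.hom) : Function.Surjective g'.hom := by
  have h1 := RingHom.surjective_isStableUnderBaseChange.pushout_inl
    (RingHom.surjective_stableUnderComposition.respectsIso fun e => e.surjective) g f hf
  rw [← h.flip.inl_isoPushout_inv, CommRingCat.hom_comp]
  exact h.flip.isoPushout.symm.commRingCatIsoToRingEquiv.surjective.comp h1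

/-- Surjectivity of `A → Γ(Z)` is preserved by flat affine base change. -/
theorem surjective_snd_appTop {Z : Scheme.{u}} {A B : CommRingCat.{u}} (ζ : Z ⟶ Spec A)
    [QuasiCompact ζ] [QuasiSeparated ζ] (x : Spec B ⟶ Spec A) [Flat x]
    (h : Function.Surjective ζ.appTop.hom) : Function.Surjective (pullback.snd ζ x).appTop.hom := by
  haveI : CompactSpace Z := QuasiCompact.compactSpace_of_compactSpace ζ
  haveI : QuasiSeparatedSpace Z := quasiSeparatedSpace_of_quasiSeparated ζ
  have hiso := isIso_pushoutSection_of_isQuasiSeparated_of_flat_right (IsPullback.of_hasPullback ζ x)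
    (US := ⊤) (UT := ⊤) (UX := ⊤) (UY := ⊤) le_top le_top (by simp) (isAffineOpen_top _) (isAffineOpen_top _)
    (show IsCompact ((⊤ : Z.Opens) : Set Z) from isCompact_univ) isQuasiSeparated_univ
  replace hiso := (isIso_pushoutSection_iff (IsPullback.of_hasPullback ζ x) le_top le_top (by simp)).mp hiso
  replace hiso : IsPushout ζ.appTop x.appTop (pullback.fst ζ x).appTop (pullback.snd ζ x).appTop := by
    simp only [Scheme.Hom.appTop, Scheme.Hom.app_eq_appLE]
    exact hiso
  exact surjective_of_isPushout hiso h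

/-- Every base change to a field has no functions but constants. -/
def ConstFibres {X S : Scheme.{u}} (ξ : X ⟶ S) : Prop :=
  ∀ (K : Type u) [Field K] (x : Spec (CommRingCat.of K) ⟶ S),
    Function.Surjective (pullback.snd ξ x).appTop.hom

theorem constFibres_of_geometrically {X S : Scheme.{u}} (ξ : X ⟶ S) [IsProper ξ]
    [GeometricallyConnected ξ] [GeometricallyReduced ξ] : ConstFibres ξ :=
  fun _ _ _ => surjective_appTop _

theorem appTop_surjective_of_iso {X Y T : Scheme.{u}} (e : X ≅ Y) (a : X ⟶ T) (b : Y ⟶ T)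
    (he : e.hom ≫ b = a) (hb : Function.Surjective b.appTop.hom) : Function.Surjective a.appTop.hom := by
  rw [← he, Scheme.Hom.comp_appTop, CommRingCat.hom_comp]
  exact (asIso e.hom.appTop).commRingCatIsoToRingEquiv.surjective.comp hb

theorem constFibres_of_fibre {X S : Scheme.{u}} (ξ : X ⟶ S) [QuasiCompact ξ] [QuasiSeparated ξ]
    (h : ∀ s, Function.Surjective (ξ.fiberToSpecResidueField s).appTop.hom) : ConstFibres ξ := by
  intro K _ x
  haveI : ∀ s, QuasiSeparated (ξ.fiberToSpecResidueField s) := fun s =>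
    MorphismProperty.pullback_snd _ _ inferInstance
  set s := x (IsLocalRing.closedPoint K)
  set φ := S.descResidueField (Scheme.stalkClosedPointTo x)
  have hx : Spec.map φ ≫ S.fromSpecResidueField s = x :=
    Scheme.descResidueField_stalkClosedPointTo_fromSpecResidueField K S x
  haveI : Flat (Spec.map φ) := by
    rw [HasRingHomProperty.Spec_iff (P := @Flat)]
    letI := φ.hom.toAlgebra
    show Module.Flat (S.residueField s) K
    exact Module.Flat.of_free
  refine appTop_surjective_of_iso
    (pullback.congrHom rfl hx.symm ≪≫ (pullbackLeftPullbackSndIso ξ (S.fromSpecResidueField s) (Spec.map φ)).symm)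
    _ (pullback.snd (ξ.fiberToSpecResidueField s) (Spec.map φ)) ?_ (surjective_snd_appTop _ _ (h s))
  simp [Scheme.Hom.fiberToSpecResidueField]

theorem ConstFibres.baseChange {X S T : Scheme.{u}} {ξ : X ⟶ S} (h : ConstFibres ξ) (g : T ⟶ S) :
    ConstFibres (pullback.snd ξ g) := by
  intro K _ x
  exact appTop_surjective_of_iso (pullbackLeftPullbackSndIso ξ g x) _ (pullback.snd ξ (x ≫ g))
    (pullbackLeftPullbackSndIso_hom_snd ξ g x) (h K (x ≫ g))

variable {R : CommRingCat.{u}} [IsNoetherianRing R] {X : Scheme.{u}} (ξ : X ⟶ Spec R)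
  [IsProper ξ] [Flat ξ] [Surjective ξ]

theorem appLE_top_top {Y T : Scheme.{u}} (f : Y ⟶ T) : f.appLE ⊤ ⊤ (by simp) = f.appTop := by
  rw [Scheme.Hom.appTop, Scheme.Hom.app_eq_appLE]; rfl

theorem surjective_ringMap (h : ConstFibres ξ) : Function.Surjective (ringMap ξ ⊤).hom := by
  letI := (ringMap ξ ⊤).hom.toAlgebra
  haveI : CompactSpace X := QuasiCompact.compactSpace_of_compactSpace ξ
  haveI : QuasiSeparatedSpace X := quasiSeparatedSpace_of_quasiSeparated ξ
  intro a
  let I : Ideal R := Submodule.colon (LinearMap.range (Algebra.linearMap R Γ(X, ⊤))) {a}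
  suffices hI : I = ⊤ by
    have h1 : (1 : R) • a ∈ LinearMap.range (Algebra.linearMap R Γ(X, ⊤)) :=
      Submodule.mem_colon_singleton.mp (hI ▸ Submodule.mem_top : (1 : R) ∈ I)
    rw [one_smul] at h1
    exact h1
  by_contra hne
  obtain ⟨p, hp, hle⟩ := Ideal.exists_le_maximal I hne
  let Rp : CommRingCat.{u} := CommRingCat.of (Localization.AtPrime p)
  let g : Spec Rp ⟶ Spec R := Spec.map (CommRingCat.ofHom (algebraMap R (Localization.AtPrime p)))
  haveI : Flat g := by
    rw [HasRingHomProperty.Spec_iff (P := @Flat), CommRingCat.hom_ofHom, RingHom.flat_algebraMap_iff]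
    exact IsLocalization.flat _ p.primeCompl
  haveI : IsLocalRing Rp := inferInstanceAs (IsLocalRing (Localization.AtPrime p))
  haveI : IsNoetherianRing Rp := inferInstanceAs (IsNoetherianRing (Localization.AtPrime p))
  letI : Field (Rp ⧸ IsLocalRing.maximalIdeal Rp) := Ideal.Quotient.field _
  have hloc := surjective_ringMap_of_isLocalRing (pullback.snd ξ g)
    ((h.baseChange g) (Rp ⧸ IsLocalRing.maximalIdeal Rp) (quotBase (IsLocalRing.maximalIdeal Rp)))
  have hiso := isIso_pushoutSection_of_isQuasiSeparated_of_flat_right (IsPullback.of_hasPullback ξ g)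
    (US := ⊤) (UT := ⊤) (UX := ⊤) (UY := ⊤) le_top le_top (by simp) (isAffineOpen_top _) (isAffineOpen_top _)
    (show IsCompact ((⊤ : X.Opens) : Set X) from isCompact_univ) isQuasiSeparated_univ
  replace hiso := (isIso_pushoutSection_iff (IsPullback.of_hasPullback ξ g) le_top le_top (by simp)).mp hiso
  replace hiso : IsPushout ξ.appTop g.appTop (pullback.fst ξ g).appTop (pullback.snd ξ g).appTop := by
    simp only [Scheme.Hom.appTop, Scheme.Hom.app_eq_appLE]
    exact hiso
  letI : Algebra (Localization.AtPrime p) Γ(pullback ξ g, ⊤) := (ringMap (pullback.snd ξ g) ⊤).hom.toAlgebra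
  letI : Algebra Γ(X, ⊤) Γ(pullback ξ g, ⊤) := (pullback.fst ξ g).appTop.hom.toAlgebra
  letI : Algebra R Γ(pullback ξ g, ⊤) := (ringMap ξ ⊤ ≫ (pullback.fst ξ g).appTop).hom.toAlgebra
  haveI : IsScalarTower R Γ(X, ⊤) Γ(pullback ξ g, ⊤) := .of_algebraMap_eq' rfl
  have hsq : ringMap ξ ⊤ ≫ (pullback.fst ξ g).appTop =
      CommRingCat.ofHom (algebraMap R (Localization.AtPrime p)) ≫ ringMap (pullback.snd ξ g) ⊤ := by
    simp only [ringMap, appLE_top_top, Category.assoc, ← Scheme.Hom.comp_appTop, pullback.condition]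
    rw [Scheme.Hom.comp_appTop, ← Category.assoc, ← Scheme.ΓSpecIso_inv_naturality, Category.assoc]
  haveI : IsScalarTower R (Localization.AtPrime p) Γ(pullback ξ g, ⊤) :=
    .of_algebraMap_eq' (congrArg CommRingCat.Hom.hom hsq)
  have hpo : IsPushout (CommRingCat.ofHom (algebraMap R Γ(X, ⊤)))
      (CommRingCat.ofHom (algebraMap R (Localization.AtPrime p)))
      (CommRingCat.ofHom (algebraMap Γ(X, ⊤) Γ(pullback ξ g, ⊤)))
      (CommRingCat.ofHom (algebraMap (Localization.AtPrime p) Γ(pullback ξ g, ⊤))) := by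
    refine hiso.of_iso (Scheme.ΓSpecIso R) (Iso.refl _) (Scheme.ΓSpecIso Rp) (Iso.refl _) ?_ ?_ ?_ ?_
    · simp only [Iso.refl_hom, Category.comp_id]
      show ξ.appTop = (Scheme.ΓSpecIso R).hom ≫ ringMap ξ ⊤
      rw [ringMap, appLE_top_top, Iso.hom_inv_id_assoc]
    · exact Scheme.ΓSpecIso_naturality _
    · simp only [Iso.refl_hom, Category.comp_id, Category.id_comp]
      rfl
    · simp only [Iso.refl_hom, Category.comp_id]
      show (pullback.snd ξ g).appTop = (Scheme.ΓSpecIso Rp).hom ≫ ringMap (pullback.snd ξ g) ⊤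
      rw [ringMap, appLE_top_top, Iso.hom_inv_id_assoc]
  haveI : Algebra.IsPushout R Γ(X, ⊤) (Localization.AtPrime p) Γ(pullback ξ g, ⊤) :=
    CommRingCat.isPushout_iff_isPushout.mp hpo
  haveI : Algebra.IsPushout R (Localization.AtPrime p) Γ(X, ⊤) Γ(pullback ξ g, ⊤) :=
    Algebra.IsPushout.symm inferInstance
  let f : Γ(X, ⊤) →ₗ[R] Γ(pullback ξ g, ⊤) := (IsScalarTower.toAlgHom R Γ(X, ⊤) Γ(pullback ξ g, ⊤)).toLinearMap
  haveI : IsLocalizedModule p.primeCompl f :=
    (isLocalizedModule_iff_isBaseChange p.primeCompl (Localization.AtPrime p) f).mpr Algebra.IsPushout.out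
  obtain ⟨c, hc⟩ := hloc (f a)
  obtain ⟨r, s, rfl⟩ := IsLocalization.exists_mk'_eq p.primeCompl c
  have h2 : f ((s : R) • a - r • 1) = 0 := by
    rw [map_sub, map_smul, map_smul, sub_eq_zero, ← hc,
      show f 1 = 1 from map_one (algebraMap Γ(X, ⊤) Γ(pullback ξ g, ⊤)), Algebra.smul_def, Algebra.smul_def, mul_one,
      IsScalarTower.algebraMap_apply R (Localization.AtPrime p) Γ(pullback ξ g, ⊤),
      IsScalarTower.algebraMap_apply R (Localization.AtPrime p) Γ(pullback ξ g, ⊤) r]
    show _ * (algebraMap (Localization.AtPrime p) Γ(pullback ξ g, ⊤)) _ = _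
    rw [← map_mul, IsLocalization.mk'_spec']
  obtain ⟨t, ht⟩ := (IsLocalizedModule.eq_zero_iff p.primeCompl f).mp h2
  have hmem : (t : R) * s ∈ I := by
    refine Submodule.mem_colon_singleton.mpr ⟨t * r, ?_⟩
    rw [smul_sub, sub_eq_zero, Submonoid.smul_def] at ht
    rw [Algebra.linearMap_apply, Algebra.algebraMap_eq_smul_one, mul_smul, mul_smul, ht, Submonoid.smul_def]
  exact (t * s).2 (hle hmem)

theorem injective_ringMap : Function.Injective (ringMap ξ ⊤).hom := by
  let A : CommRingCat.{u} := CommRingCat.of (Polynomial (ULift.{u} ℤ))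
  intro r r' hrr
  let c : R → (A ⟶ R) := fun r => CommRingCat.ofHom
    (Polynomial.eval₂RingHom ((Int.castRingHom R).comp ULift.ringEquiv.toRingHom) r)
  have key : ∀ r, ξ ≫ Spec.map (c r) = X.toSpecΓ ≫ Spec.map (c r ≫ ringMap ξ ⊤) := fun r => by
    rw [Spec.map_comp, ← Category.assoc]
    congr 1
    rw [ringMap, appLE_top_top, Spec.map_comp, ← Category.assoc, ← Scheme.toSpecΓ_naturality, Category.assoc]
    simp
  have hc : c r ≫ ringMap ξ ⊤ = c r' ≫ ringMap ξ ⊤ := by
    ext1
    refine Polynomial.ringHom_ext (fun a => ?_) ?_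
    · obtain ⟨a⟩ := a
      simp [c]
    · simpa [c] using hrr
  have h := (key r).trans ((congrArg (fun d => X.toSpecΓ ≫ Spec.map d) hc).trans (key r').symm)
  have h3 := ConcreteCategory.congr_hom (Spec.map_injective ((cancel_epi ξ).mp h)) Polynomial.X
  exact ((Polynomial.eval₂_X _ _).symm.trans h3).trans (Polynomial.eval₂_X _ _)

/-- `ξ_* O_X = O_S` on affine opens. -/
theorem bijective_app {X S : Scheme.{u}} [IsLocallyNoetherian S] (ξ : X ⟶ S) [IsProper ξ] [Flat ξ]
    [Surjective ξ] (h : ConstFibres ξ) {U : S.Opens} (hU : IsAffineOpen U) :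
    Function.Bijective (ξ.app U).hom := by
  haveI : IsNoetherianRing Γ(S, U) := IsLocallyNoetherian.component_noetherian ⟨U, hU⟩
  have hb : Function.Bijective (ringMap (pullback.snd ξ hU.fromSpec) ⊤).hom :=
    ⟨injective_ringMap _, surjective_ringMap _ (h.baseChange hU.fromSpec)⟩
  have hq : ringMap (pullback.snd ξ hU.fromSpec) ⊤ =
      ξ.app U ≫ (pullback.fst ξ hU.fromSpec).appLE (ξ ⁻¹ᵁ U) ⊤
        (by
          intro z _
          show (pullback.fst ξ hU.fromSpec ≫ ξ) z ∈ U
          rw [pullback.condition, Scheme.Hom.comp_apply, ← SetLike.mem_coe, ← hU.range_fromSpec]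
          exact ⟨_, rfl⟩) := by
    rw [Scheme.Hom.app_eq_appLE, Scheme.Hom.appLE_comp_appLE]
    simp only [pullback.condition]
    rw [← Scheme.Hom.appLE_comp_appLE _ _ U ⊤ ⊤ (by rw [hU.fromSpec_preimage_self]) le_top, ringMap]
    congr 1
    simp only [Scheme.Hom.appLE, IsAffineOpen.fromSpec_app_self, Category.assoc, ← Functor.map_comp]
    exact (Category.comp_id _).symm.trans (congrArg _ ((CategoryTheory.Functor.map_id _ _).symm.trans rfl))
  set q := (pullback.fst ξ hU.fromSpec).appLE (ξ ⁻¹ᵁ U) ⊤ _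
  haveI : IsIso q := by
    have hr : (pullback.fst ξ hU.fromSpec) ''ᵁ ⊤ = ξ ⁻¹ᵁ U := by
      ext x
      rw [Scheme.Hom.coe_image, Opens.coe_top, Set.image_univ, IsOpenImmersion.range_pullbackFst,
        hU.opensRange_fromSpec]
    suffices ∀ (V : X.Opens) (hV : (pullback.fst ξ hU.fromSpec) ''ᵁ ⊤ = V) hle,
        IsIso ((pullback.fst ξ hU.fromSpec).appLE V ⊤ hle) from this _ hr _
    rintro V rfl hle
    rw [← Scheme.Hom.appIso_hom']
    infer_instance
  rw [hq, CommRingCat.hom_comp] at hb
  exact (Function.Bijective.of_comp_iff' (asIso q).commRingCatIsoToRingEquiv.bijective _).mp hb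

end Groth.Agent.RigidRel
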