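import Groth.Agent.Lib.RigidRel.Approx
import Groth.Agent.Lib.RigidRel.Global
import Mathlib.AlgebraicGeometry.Morphisms.Descent
import Mathlib.AlgebraicGeometry.Morphisms.FinitePresentation

/-!
# `ξ_* O_X = O_S` for flat, finitely presented, separated morphisms with constant fibres
over an arbitrary base
-/

universe u
open CategoryTheory Limits AlgebraicGeometry TopologicalSpace Opposite TensorProduct

set_option linter.style.haveILetI false
set_option backward.isDefEq.respectTransparency false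

namespace Groth.Agent.RigidRel

theorem appTop_injective {U X : Scheme.{u}} (π : U ⟶ X) [Flat π] [Surjective π] :
    Function.Injective π.appTop.hom := by
  let A : CommRingCat.{u} := CommRingCat.of (Polynomial (ULift.{u} ℤ))
  haveI := Flat.epi_of_flat_of_surjective π
  intro a b hab
  let c : Γ(X, ⊤) → (A ⟶ Γ(X, ⊤)) := fun a => CommRingCat.ofHom
    (Polynomial.eval₂RingHom ((Int.castRingHom Γ(X, ⊤)).comp ULift.ringEquiv.toRingHom) a)
  have hc : c a ≫ π.appTop = c b ≫ π.appTop := by
    ext1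
    refine Polynomial.ringHom_ext (fun n => ?_) ?_
    · obtain ⟨n⟩ := n
      simp [c]
    · simpa [c] using hab
  have h : π ≫ X.toSpecΓ ≫ Spec.map (c a) = π ≫ X.toSpecΓ ≫ Spec.map (c b) := by
    simp only [Scheme.toSpecΓ_naturality_assoc, ← Spec.map_comp, hc]
  have h2 := congrArg (fun f => (Scheme.ΓSpecIso A).inv ≫ Scheme.Hom.appTop f) ((cancel_epi π).mp h)
  simp only [Scheme.Hom.comp_appTop, Scheme.toSpecΓ_appTop, ← Scheme.ΓSpecIso_inv_naturality_assoc,
    Iso.inv_hom_id, Category.comp_id] at h2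
  have h3 := ConcreteCategory.congr_hom h2 Polynomial.X
  exact ((Polynomial.eval₂_X _ _).symm.trans h3).trans (Polynomial.eval₂_X _ _)

theorem exists_appTop_eq {U X : Scheme.{u}} (π : U ⟶ X) [Flat π] [Surjective π] [QuasiCompact π]
    (φ : Γ(U, ⊤)) (h : (pullback.fst π π).appTop φ = (pullback.snd π π).appTop φ) :
    ∃ a : Γ(X, ⊤), π.appTop a = φ := by
  let A : CommRingCat.{u} := CommRingCat.of (Polynomial (ULift.{u} ℤ))
  let c : A ⟶ Γ(U, ⊤) := CommRingCat.ofHom
    (Polynomial.eval₂RingHom ((Int.castRingHom Γ(U, ⊤)).comp ULift.ringEquiv.toRingHom) φ)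
  let g : U ⟶ Spec A := U.toSpecΓ ≫ Spec.map c
  have hc : c ≫ (pullback.fst π π).appTop = c ≫ (pullback.snd π π).appTop := by
    ext1
    refine Polynomial.ringHom_ext (fun a => ?_) ?_
    · obtain ⟨a⟩ := a
      simp [c]
    · simpa [c] using h
  have hkey : ∀ {T : Scheme.{u}} (a b : T ⟶ U), a ≫ π = b ≫ π → a ≫ g = b ≫ g := by
    intro T a b hab
    have hg : pullback.fst π π ≫ g = pullback.snd π π ≫ g := by
      simp only [g, Scheme.toSpecΓ_naturality_assoc, ← Spec.map_comp, hc]
    calc a ≫ g = pullback.lift a b hab ≫ pullback.fst π π ≫ g := by rw [pullback.lift_fst_assoc]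
      _ = pullback.lift a b hab ≫ pullback.snd π π ≫ g := by rw [hg]
      _ = b ≫ g := by rw [pullback.lift_snd_assoc]
  let v : X ⟶ Spec A := EffectiveEpi.desc π g hkey
  refine ⟨v.appTop ((Scheme.ΓSpecIso A).inv Polynomial.X), ?_⟩
  have h1 : (Scheme.ΓSpecIso A).inv ≫ v.appTop ≫ π.appTop = c := by
    rw [← Scheme.Hom.comp_appTop, EffectiveEpi.fac π g hkey]
    simp only [g, Scheme.Hom.comp_appTop, Scheme.toSpecΓ_appTop]
    rw [← Scheme.ΓSpecIso_inv_naturality_assoc, Iso.inv_hom_id, Category.comp_id]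
  exact (ConcreteCategory.congr_hom h1 Polynomial.X).trans (Polynomial.eval₂_X _ _)

variable {R : CommRingCat.{u}} {X : Scheme.{u}} (ξ : X ⟶ Spec R)

theorem ringMap_top : ringMap ξ ⊤ = (Scheme.ΓSpecIso R).inv ≫ ξ.appTop := by
  rw [ringMap, appLE_top_top]

theorem ringMap_comp {Y : Scheme.{u}} (π : Y ⟶ X) : ringMap ξ ⊤ ≫ π.appTop = ringMap (π ≫ ξ) ⊤ := by
  rw [ringMap_top, ringMap_top, Category.assoc, Scheme.Hom.comp_appTop]

theorem ringMap_of_comm {R' : CommRingCat.{u}} {Y : Scheme.{u}} (η : Y ⟶ Spec R') (h : R ⟶ R')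
    (w : Y ⟶ X) (hw : w ≫ ξ = η ≫ Spec.map h) : h ≫ ringMap η ⊤ = ringMap ξ ⊤ ≫ w.appTop := by
  rw [ringMap_comp, hw, ringMap_top, ringMap_top, Scheme.Hom.comp_appTop,
    ← Scheme.ΓSpecIso_inv_naturality_assoc]

/-- `ξ_* O_X = O_S` over an affine base, without noetherian hypotheses. -/
theorem bijective_ringMap [Flat ξ] [LocallyOfFinitePresentation ξ] [QuasiCompact ξ] [IsSeparated ξ]
    [Surjective ξ] (hξ : ConstFibres ξ) : Function.Bijective (ringMap ξ ⊤).hom := by
  refine ⟨fun a b hab => ?_, fun φ => ?_⟩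
  · rw [ringMap_top] at hab
    exact (Scheme.ΓSpecIso R).symm.commRingCatIsoToRingEquiv.injective (appTop_injective ξ hab)
  haveI : CompactSpace X := QuasiCompact.compactSpace_of_compactSpace ξ
  let 𝒰 := X.affineCover.finiteSubcover
  let U : Scheme.{u} := ∐ (fun i : 𝒰.I₀ ↦ 𝒰.X i)
  let π : U ⟶ X := Sigma.desc (fun i ↦ 𝒰.f i)
  haveI : Surjective π := Surjective.sigmaDesc_of_union_range_eq_univ 𝒰.iUnion_range
  haveI : Flat π := IsZariskiLocalAtSource.sigmaDesc (fun _ ↦ inferInstance)
  haveI : LocallyOfFinitePresentation π := IsZariskiLocalAtSource.sigmaDesc (fun _ ↦ inferInstance)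
  let f : U ⟶ Spec R := π ≫ ξ
  haveI : QuasiCompact π := QuasiCompact.of_comp π ξ
  let P : Scheme.{u} := pullback π π
  let fP : P ⟶ Spec R := pullback.fst π π ≫ f
  haveI : IsAffine P := isAffine_of_isAffineHom (pullback.mapDesc π π ξ)
  letI : Algebra R Γ(U, ⊤) := (ringMap f ⊤).hom.toAlgebra
  letI : Algebra R Γ(P, ⊤) := (ringMap fP ⊤).hom.toAlgebra
  haveI : Module.Flat R Γ(U, ⊤) := flat_ringMap f (isAffineOpen_top _)
  haveI : Module.Flat R Γ(P, ⊤) := flat_ringMap fP (isAffineOpen_top _)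
  have hfp : ∀ {Y : Scheme.{u}} [IsAffine Y] (h : Y ⟶ Spec R) [LocallyOfFinitePresentation h],
      (ringMap h ⊤).hom.FinitePresentation := fun {Y} _ h _ => by
    rw [ringMap_top, CommRingCat.hom_comp]
    exact ((HasRingHomProperty.iff_of_isAffine (P := @LocallyOfFinitePresentation)).1 inferInstance).comp
      (RingHom.FinitePresentation.of_bijective (Scheme.ΓSpecIso R).symm.commRingCatIsoToRingEquiv.bijective)
  haveI : Algebra.FinitePresentation R Γ(U, ⊤) := hfp f
  haveI : Algebra.FinitePresentation R Γ(P, ⊤) := hfp fP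
  let d₁ : Γ(U, ⊤) →ₐ[R] Γ(P, ⊤) :=
    { (pullback.fst π π).appTop.hom with
      commutes' := fun r => ConcreteCategory.congr_hom (ringMap_comp f (pullback.fst π π)) r }
  let d₂ : Γ(U, ⊤) →ₐ[R] Γ(P, ⊤) :=
    { (pullback.snd π π).appTop.hom with
      commutes' := fun r => (ConcreteCategory.congr_hom (ringMap_comp f (pullback.snd π π)) r).trans (by
        rw [← pullback.condition_assoc]; rfl) }
  have key : π.appTop φ ⊗ₜ[R] (1 : Γ(U, ⊤)) = (1 : Γ(U, ⊤)) ⊗ₜ[R] π.appTop φ := by
    refine tmul_comm_of_fibres d₁ d₂ (fun p hp y hy => ?_) (π.appTop φ) ?_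
    swap
    · show (π.appTop ≫ (pullback.fst π π).appTop) φ = (π.appTop ≫ (pullback.snd π π).appTop) φ
      rw [← Scheme.Hom.comp_appTop, ← Scheme.Hom.comp_appTop, pullback.condition]
    let K : CommRingCat.{u} := CommRingCat.of p.ResidueField
    let h : R ⟶ K := CommRingCat.ofHom (algebraMap R p.ResidueField)
    let g : Spec K ⟶ Spec R := Spec.map h
    let ιX := pullback.fst ξ g
    let ξ' := pullback.snd ξ g
    let ιU := pullback.fst π ιX
    let π' := pullback.snd π ιX
    have sq : IsPullback ιU (π' ≫ ξ') f g :=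
      (IsPullback.of_hasPullback π ιX).paste_vert (IsPullback.of_hasPullback ξ g)
    haveI : IsAffine (pullback π ιX) := IsAffine.of_isPullback sq
    haveI : QuasiCompact ιX := inferInstance
    haveI : IsSeparated ιX := inferInstance
    let w : pullback π' π' ⟶ P := pullback.map π' π' π π ιU ιU ιX pullback.condition.symm pullback.condition.symm
    let fP' : pullback π' π' ⟶ Spec K := pullback.fst π' π' ≫ π' ≫ ξ'
    let U' := pullback π ιX
    letI : Algebra K Γ(U', ⊤) := (ringMap (π' ≫ ξ') ⊤).hom.toAlgebra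
    letI : Algebra K Γ(pullback π' π', ⊤) := (ringMap fP' ⊤).hom.toAlgebra
    letI : Algebra R Γ(U', ⊤) := (h ≫ ringMap (π' ≫ ξ') ⊤).hom.toAlgebra
    letI : Algebra R Γ(pullback π' π', ⊤) := (h ≫ ringMap fP' ⊤).hom.toAlgebra
    haveI : IsScalarTower R K Γ(U', ⊤) := .of_algebraMap_eq' rfl
    haveI : IsScalarTower R K Γ(pullback π' π', ⊤) := .of_algebraMap_eq' rfl
    let jU₀ : Γ(U, ⊤) →ₐ[R] Γ(U', ⊤) :=
      { ιU.appTop.hom with
        commutes' := fun r => (ConcreteCategory.congr_hom (ringMap_of_comm f (π' ≫ ξ') h ιU sq.w) r).symm }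
    let jP₀ : Γ(P, ⊤) →ₐ[R] Γ(pullback π' π', ⊤) :=
      { w.appTop.hom with
        commutes' := fun r => (ConcreteCategory.congr_hom (ringMap_of_comm fP fP' h w (by
          simp only [w, fP, fP', pullback.lift_fst_assoc, Category.assoc, sq.w, g])) r).symm }
    let jU : K ⊗[R] Γ(U, ⊤) →ₐ[R] Γ(U', ⊤) :=
      Algebra.TensorProduct.lift (IsScalarTower.toAlgHom R K _) jU₀ fun _ _ => Commute.all _ _
    let jP : K ⊗[R] Γ(P, ⊤) →ₐ[R] Γ(pullback π' π', ⊤) :=
      Algebra.TensorProduct.lift (IsScalarTower.toAlgHom R K _) jP₀ fun _ _ => Commute.all _ _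
    have n₁ : ∀ z, (pullback.fst π' π').appTop (jU z) = jP (Algebra.TensorProduct.map (AlgHom.id R K) d₁ z) := by
      intro z
      induction z using TensorProduct.induction_on with
      | zero => simp
      | add a b ha hb => simp only [map_add, ha, hb]
      | tmul k b =>
        simp only [jU, jP, Algebra.TensorProduct.map_tmul, Algebra.TensorProduct.lift_tmul, map_mul]
        congr 1
        · exact ConcreteCategory.congr_hom (ringMap_comp (π' ≫ ξ') (pullback.fst π' π')) k
        · show (ιU.appTop ≫ (pullback.fst π' π').appTop) b = ((pullback.fst π π).appTop ≫ w.appTop) b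
          rw [← Scheme.Hom.comp_appTop, ← Scheme.Hom.comp_appTop, pullback.lift_fst]
    have n₂ : ∀ z, (pullback.snd π' π').appTop (jU z) = jP (Algebra.TensorProduct.map (AlgHom.id R K) d₂ z) := by
      intro z
      induction z using TensorProduct.induction_on with
      | zero => simp
      | add a b ha hb => simp only [map_add, ha, hb]
      | tmul k b =>
        simp only [jU, jP, Algebra.TensorProduct.map_tmul, Algebra.TensorProduct.lift_tmul, map_mul]
        congr 1
        · refine (ConcreteCategory.congr_hom (ringMap_comp (π' ≫ ξ') (pullback.snd π' π')) k).trans ?_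
          rw [← pullback.condition_assoc]
          rfl
        · show (ιU.appTop ≫ (pullback.snd π' π').appTop) b = ((pullback.snd π π).appTop ≫ w.appTop) b
          rw [← Scheme.Hom.comp_appTop, ← Scheme.Hom.comp_appTop, pullback.lift_snd]
    haveI : QuasiCompact π' := MorphismProperty.pullback_snd _ _ inferInstance
    obtain ⟨a, ha⟩ := exists_appTop_eq π' (jU y) (by
      rw [n₁, n₂]; exact congrArg jP hy)
    obtain ⟨c₀, hc₀⟩ := hξ p.ResidueField g a
    let c : K := (Scheme.ΓSpecIso K).hom c₀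
    refine ⟨c, ?_⟩
    -- injectivity of `jU`
    have hpo : IsPushout (CommRingCat.ofHom (algebraMap R Γ(U, ⊤))) (CommRingCat.ofHom (algebraMap R K))
        (CommRingCat.ofHom jU₀.toRingHom) (CommRingCat.ofHom (algebraMap K Γ(U', ⊤))) := by
      refine (isPushout_appTop_of_isPullback sq).of_iso (Scheme.ΓSpecIso R) (Iso.refl _) (Scheme.ΓSpecIso K)
        (Iso.refl _) ?_ ?_ ?_ ?_
      · simp only [Iso.refl_hom, Category.comp_id]
        show f.appTop = (Scheme.ΓSpecIso R).hom ≫ ringMap f ⊤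
        rw [ringMap_top, Iso.hom_inv_id_assoc]
      · exact Scheme.ΓSpecIso_naturality _
      · simp only [Iso.refl_hom, Category.comp_id, Category.id_comp]
        rfl
      · simp only [Iso.refl_hom, Category.comp_id]
        show (π' ≫ ξ').appTop = (Scheme.ΓSpecIso K).hom ≫ ringMap (π' ≫ ξ') ⊤
        rw [ringMap_top, Iso.hom_inv_id_assoc]
    letI : Algebra Γ(U, ⊤) Γ(U', ⊤) := jU₀.toRingHom.toAlgebra
    haveI : IsScalarTower R Γ(U, ⊤) Γ(U', ⊤) := .of_algebraMap_eq fun r => (jU₀.commutes r).symm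
    haveI : Algebra.IsPushout R Γ(U, ⊤) K Γ(U', ⊤) := CommRingCat.isPushout_iff_isPushout.mp hpo
    haveI : Algebra.IsPushout R K Γ(U, ⊤) Γ(U', ⊤) := Algebra.IsPushout.symm inferInstance
    let e := (Algebra.IsPushout.out : IsBaseChange K
      (IsScalarTower.toAlgHom R Γ(U, ⊤) Γ(U', ⊤)).toLinearMap).equiv
    have he : ∀ z, jU z = e z := fun z => by
      induction z using TensorProduct.induction_on with
      | zero => simp
      | add a b ha hb => simp only [map_add, ha, hb]
      | tmul k b =>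
        rw [IsBaseChange.equiv_tmul, Algebra.smul_def]
        simp only [jU, Algebra.TensorProduct.lift_tmul]
        rfl
    refine e.injective ?_
    rw [← he, ← he, ← ha, ← hc₀]
    simp only [jU, Algebra.TensorProduct.lift_tmul, map_one, mul_one]
    show (ξ'.appTop ≫ π'.appTop) c₀ = ringMap (π' ≫ ξ') ⊤ c
    rw [ringMap_top, Scheme.Hom.comp_appTop]
    refine congrArg (ξ'.appTop ≫ π'.appTop) ?_
    exact (ConcreteCategory.congr_hom (Iso.hom_inv_id (Scheme.ΓSpecIso K)) c₀).symm
  haveI : Module.FaithfullyFlat R Γ(U, ⊤) := by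
    refine Module.FaithfullyFlat.of_comap_surjective ?_
    have hs : Surjective (Spec.map (ringMap f ⊤)) := by
      have : U.isoSpec.hom ≫ Spec.map (ringMap f ⊤) = f := by
        rw [ringMap_top, Spec.map_comp, Scheme.isoSpec_hom_naturality_assoc]
        simp
      haveI : Surjective (U.isoSpec.hom ≫ Spec.map (ringMap f ⊤)) := this.symm ▸ inferInstance
      exact Surjective.of_comp U.isoSpec.hom _
    exact hs.surj
  obtain ⟨r, hr⟩ := exists_algebraMap_eq_of_tmul_comm _ key
  exact ⟨r, appTop_injective π ((ConcreteCategory.congr_hom (ringMap_comp ξ π) r).trans hr)⟩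

/-- `ξ_* O_X = O_S` on affine opens, for any base. -/
theorem bijective_app' {X S : Scheme.{u}} (ξ : X ⟶ S) [Flat ξ] [LocallyOfFinitePresentation ξ]
    [QuasiCompact ξ] [IsSeparated ξ] [Surjective ξ] (h : ConstFibres ξ) {U : S.Opens} (hU : IsAffineOpen U) :
    Function.Bijective (ξ.app U).hom := by
  have hb : Function.Bijective (ringMap (pullback.snd ξ hU.fromSpec) ⊤).hom :=
    bijective_ringMap _ (h.baseChange hU.fromSpec)
  have hq : ringMap (pullback.snd ξ hU.fromSpec) ⊤ =
      ξ.app U ≫ (pullback.fst ξ hU.fromSpec).appLE (ξ ⁻¹ᵁ U) ⊤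
        (by
          intro z _
          show (pullback.fst ξ hU.fromSpec ≫ ξ) z ∈ U
          rw [pullback.condition, Scheme.Hom.comp_apply, ← SetLike.mem_coe, ← hU.range_fromSpec]
          exact ⟨_, rfl⟩) := by
    rw [Scheme.Hom.app_eq_appLE, Scheme.Hom.appLE_comp_appLE]
    simp only [pullback.condition]
    rw [← Scheme.Hom.appLE_comp_appLE _ _ U ⊤ ⊤ (by rw [hU.fromSpec_preimage_self]) le_top, ringMap]
    congr 1
    simp only [Scheme.Hom.appLE, IsAffineOpen.fromSpec_app_self, Category.assoc, ← Functor.map_comp]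
    exact (Category.comp_id _).symm.trans (congrArg _ ((CategoryTheory.Functor.map_id _ _).symm.trans rfl))
  set q := (pullback.fst ξ hU.fromSpec).appLE (ξ ⁻¹ᵁ U) ⊤ _
  haveI : IsIso q := by
    have hr : (pullback.fst ξ hU.fromSpec) ''ᵁ ⊤ = ξ ⁻¹ᵁ U := by
      ext x
      rw [Scheme.Hom.coe_image, Opens.coe_top, Set.image_univ, IsOpenImmersion.range_pullbackFst,
        hU.opensRange_fromSpec]
    suffices ∀ (V : X.Opens) (hV : (pullback.fst ξ hU.fromSpec) ''ᵁ ⊤ = V) hle,
        IsIso ((pullback.fst ξ hU.fromSpec).appLE V ⊤ hle) from this _ hr _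
    rintro V rfl hle
    rw [← Scheme.Hom.appIso_hom']
    infer_instance
  rw [hq, CommRingCat.hom_comp] at hb
  exact (Function.Bijective.of_comp_iff' (asIso q).commRingCatIsoToRingEquiv.bijective _).mp hb

end Groth.Agent.RigidRel
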