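import Groth.Agent.Lib.RigidRel.Dev
import Mathlib.AlgebraicGeometry.Morphisms.Flat
import Mathlib.AlgebraicGeometry.Morphisms.Proper
import Mathlib.AlgebraicGeometry.Morphisms.Affine
import Mathlib.AlgebraicGeometry.Sites.Fpqc
import Mathlib.AlgebraicGeometry.Noetherian
import Mathlib.RingTheory.Filtration
import Mathlib.LinearAlgebra.DirectSum.Finsupp
import Mathlib.Algebra.Category.Ring.Constructions

/-!
# Global functions of a proper flat scheme over a noetherian local ring
-/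

universe u
open CategoryTheory Limits AlgebraicGeometry TopologicalSpace Opposite

set_option linter.style.haveILetI false

namespace Groth.Agent.RigidRel

set_option backward.isDefEq.respectTransparency false

variable {R : CommRingCat.{u}} {X : Scheme.{u}} (ξ : X ⟶ Spec R)

/-- The structure map `R → Γ(X, W)`. -/
noncomputable def ringMap (W : X.Opens) : R ⟶ Γ(X, W) :=
  (Scheme.ΓSpecIso R).inv ≫ ξ.appLE ⊤ W (by simp)

theorem ringMap_res {W W' : X.Opens} (h : W' ≤ W) :
    ringMap ξ W ≫ X.presheaf.map (homOfLE h).op = ringMap ξ W' := by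
  rw [ringMap, ringMap, Category.assoc, Scheme.Hom.appLE_map]

theorem flat_ringMap [Flat ξ] {W : X.Opens} (hW : IsAffineOpen W) : (ringMap ξ W).hom.Flat := by
  rw [ringMap, CommRingCat.hom_comp]
  exact RingHom.Flat.comp (RingHom.Flat.of_bijective
    (Scheme.ΓSpecIso R).symm.commRingCatIsoToRingEquiv.bijective) (ξ.flat_appLE (isAffineOpen_top _) hW _)

/-- The closed subscheme defined by an ideal of the base. -/
noncomputable abbrev quotBase (I : Ideal R) : Spec (CommRingCat.of (R ⧸ I)) ⟶ Spec R :=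
  Spec.map (CommRingCat.ofHom (Ideal.Quotient.mk I))

theorem mem_map_of_app_eq_zero (I : Ideal R) {W : X.Opens} (hW : IsAffineOpen W) (x : Γ(X, W))
    (hx : (pullback.fst ξ (quotBase I)).app W x = 0) : x ∈ I.map (ringMap ξ W).hom := by
  set j := quotBase I
  set ι := pullback.fst ξ j
  set p := pullback.snd ξ j
  have h := isIso_pushoutSection_of_isAffineOpen (IsPullback.of_hasPullback ξ j) (US := ⊤) (UT := ⊤)
    (UX := W) (UY := ι ⁻¹ᵁ W) le_top le_top (by simp [ι]) (isAffineOpen_top _) (isAffineOpen_top _) hW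
  replace h := (isIso_pushoutSection_iff _ _ _ _).mp h
  set K := I.map (ringMap ξ W).hom
  let a : Γ(X, W) ⟶ CommRingCat.of (Γ(X, W) ⧸ K) := CommRingCat.ofHom (Ideal.Quotient.mk K)
  let b : Γ(Spec (CommRingCat.of (R ⧸ I)), ⊤) ⟶ CommRingCat.of (Γ(X, W) ⧸ K) :=
    (Scheme.ΓSpecIso _).hom ≫ CommRingCat.ofHom (Ideal.Quotient.lift I ((Ideal.Quotient.mk K).comp (ringMap ξ W).hom)
      fun r hr => Ideal.Quotient.eq_zero_iff_mem.mpr (Ideal.mem_map_of_mem _ hr))
  have hw : ξ.appLE ⊤ W le_top ≫ a = j.appLE ⊤ ⊤ le_top ≫ b := by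
    rw [← cancel_epi (Scheme.ΓSpecIso R).inv, ← Category.assoc, ← ringMap]
    have e : (Scheme.ΓSpecIso R).inv ≫ j.appLE ⊤ ⊤ le_top =
        CommRingCat.ofHom (Ideal.Quotient.mk I) ≫ (Scheme.ΓSpecIso _).inv := by
      rw [Scheme.ΓSpecIso_inv_naturality, Scheme.Hom.appTop, Scheme.Hom.app_eq_appLE]
      rfl
    rw [← Category.assoc, e, Category.assoc, Iso.inv_hom_id_assoc]
    ext r
    rfl
  have hd := h.inl_desc a b hw
  have h0 := ConcreteCategory.congr_hom hd x
  rw [ConcreteCategory.comp_apply] at h0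
  have : ι.appLE W (ι ⁻¹ᵁ W) le_rfl x = 0 := by rw [← Scheme.Hom.app_eq_appLE]; exact hx
  rw [this, map_zero] at h0
  exact Ideal.Quotient.eq_zero_iff_mem.mp h0.symm

theorem app_eq_zero_of_mem_map (I : Ideal R) {W : X.Opens} (x : Γ(X, W))
    (hx : x ∈ I.map (ringMap ξ W).hom) : (pullback.fst ξ (quotBase I)).app W x = 0 := by
  suffices h : I.map (ringMap ξ W).hom ≤ RingHom.ker ((pullback.fst ξ (quotBase I)).app W).hom from h hx
  rw [Ideal.map_le_iff_le_comap]
  intro r hr
  simp only [Ideal.mem_comap, RingHom.mem_ker]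
  show (ringMap ξ W ≫ (pullback.fst ξ (quotBase I)).app W) r = 0
  rw [ringMap, Category.assoc, Scheme.Hom.app_eq_appLE, Scheme.Hom.appLE_comp_appLE]
  simp only [pullback.condition]
  rw [← Scheme.Hom.appLE_comp_appLE _ _ ⊤ ⊤ _ le_top le_top]
  have e : (Scheme.ΓSpecIso R).inv ≫ (quotBase I).appLE ⊤ ⊤ le_top =
      CommRingCat.ofHom (Ideal.Quotient.mk I) ≫ (Scheme.ΓSpecIso _).inv := by
    rw [Scheme.ΓSpecIso_inv_naturality, Scheme.Hom.appTop, Scheme.Hom.app_eq_appLE]
    rfl
  rw [← Category.assoc, e, ConcreteCategory.comp_apply, ConcreteCategory.comp_apply]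
  refine (congrArg _ (congrArg _ (show (ConcreteCategory.hom (CommRingCat.ofHom (Ideal.Quotient.mk I))) r = 0 from
    Ideal.Quotient.eq_zero_iff_mem.mpr hr))).trans ?_
  rw [map_zero, map_zero]

variable {m : Ideal R} [m.IsMaximal] [IsNoetherianRing R]

/-- On a finite affine cover, a function is constant modulo every power of the maximal ideal. -/
theorem exists_forall_sub_mem_pow [Flat ξ] [IsSeparated ξ] {κ : Type u} [Finite κ] (W : κ → X.Opens)
    (hW : ∀ i, IsAffineOpen (W i)) (hcov : iSup W = ⊤)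
    (hΓ : Function.Surjective (pullback.snd ξ (quotBase m)).appTop.hom) (φ : Γ(X, ⊤)) (n : ℕ) :
    ∃ r : R, ∀ i, X.presheaf.map (homOfLE (le_top : W i ≤ ⊤)).op φ - ringMap ξ (W i) r ∈
      (m ^ n).map (ringMap ξ (W i)).hom := by
  classical
  cases nonempty_fintype κ
  haveI : IsSeparated (terminal.from X) := by
    rw [terminal.hom_ext (terminal.from X) (ξ ≫ terminal.from _)]; infer_instance
  letI alg0 : ∀ i, Algebra R Γ(X, W i) := fun i => (ringMap ξ (W i)).hom.toAlgebra
  letI alg1 : ∀ p : κ × κ, Algebra R Γ(X, W p.1 ⊓ W p.2) := fun p => (ringMap ξ _).hom.toAlgebra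
  haveI : ∀ i, Module.Flat R Γ(X, W i) := fun i => flat_ringMap ξ (hW i)
  haveI : ∀ p : κ × κ, Module.Flat R Γ(X, W p.1 ⊓ W p.2) := fun p =>
    flat_ringMap ξ ((hW p.1).inf (hW p.2))
  haveI : Module.Flat R (∀ i, Γ(X, W i)) :=
    Module.Flat.of_linearEquiv (DirectSum.linearEquivFunOnFintype R κ fun i => Γ(X, W i)).symm
  haveI : Module.Flat R (∀ p : κ × κ, Γ(X, W p.1 ⊓ W p.2)) :=
    Module.Flat.of_linearEquiv (DirectSum.linearEquivFunOnFintype R (κ × κ) fun p => Γ(X, W p.1 ⊓ W p.2)).symm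
  let d : (∀ i, Γ(X, W i)) →ₗ[R] (∀ p : κ × κ, Γ(X, W p.1 ⊓ W p.2)) :=
    { toFun := fun x p => X.presheaf.map (homOfLE inf_le_left).op (x p.1) -
        X.presheaf.map (homOfLE inf_le_right).op (x p.2)
      map_add' := fun x y => by funext p; simp only [Pi.add_apply, map_add]; abel
      map_smul' := fun r x => by
        funext p
        simp only [Pi.smul_apply, Algebra.smul_def, map_mul, RingHom.id_apply, RingHom.algebraMap_toAlgebra,
          mul_sub]
        congr 2
        · exact ConcreteCategory.congr_hom (ringMap_res ξ inf_le_left) r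
        · exact ConcreteCategory.congr_hom (ringMap_res ξ inf_le_right) r }
  have he : d 1 = 0 := by funext p; simp [d]
  have hmemI : ∀ (I : Ideal R) {A : Type u} [CommRing A] [Algebra R A] (y : A),
      y ∈ I • (⊤ : Submodule R A) ↔ y ∈ I.map (algebraMap R A) := by
    intro I A _ _ y; rw [Ideal.smul_top_eq_map]; rfl
  set ι := pullback.fst ξ (quotBase m)
  have H : ∀ x, d x ∈ m • (⊤ : Submodule R (∀ p : κ × κ, Γ(X, W p.1 ⊓ W p.2))) →
      ∃ r : R, x - r • (1 : ∀ i, Γ(X, W i)) ∈ m • (⊤ : Submodule R (∀ i, Γ(X, W i))) := by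
    intro x hx
    have hxp : ∀ p : κ × κ, ι.app (W p.1 ⊓ W p.2) (d x p) = 0 := by
      intro p
      refine app_eq_zero_of_mem_map ξ m _ ((hmemI m _).mp ?_)
      have h := Submodule.mem_map_of_mem (f := LinearMap.proj (φ := fun p : κ × κ => Γ(X, W p.1 ⊓ W p.2)) p) hx
      rw [Submodule.map_smul''] at h
      exact Submodule.smul_mono le_rfl le_top h
    have hc : TopCat.Presheaf.IsCompatible (pullback ξ (quotBase m)).sheaf.1 (fun i => ι ⁻¹ᵁ W i)
        (fun i => ι.app (W i) (x i)) := by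
      intro i k
      have h := hxp (i, k)
      simp only [d, LinearMap.coe_mk, AddHom.coe_mk, map_sub, sub_eq_zero] at h
      rw [← ConcreteCategory.comp_apply, ← ConcreteCategory.comp_apply (X.presheaf.map _),
        Scheme.Hom.naturality, Scheme.Hom.naturality] at h
      exact h
    obtain ⟨g, hg, -⟩ := (pullback ξ (quotBase m)).sheaf.existsUnique_gluing' (fun i => ι ⁻¹ᵁ W i) ⊤
      (fun i => homOfLE le_top) (by rw [← Scheme.Hom.preimage_iSup, hcov]; simp) _ hc
    obtain ⟨a, ha⟩ := hΓ g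
    obtain ⟨r, hr⟩ : ∃ r : R, (quotBase m).appTop ((Scheme.ΓSpecIso R).inv r) = a := by
      obtain ⟨r, hr⟩ := Ideal.Quotient.mk_surjective ((Scheme.ΓSpecIso (CommRingCat.of (R ⧸ m))).hom a)
      refine ⟨r, ?_⟩
      rw [← ConcreteCategory.comp_apply, ← Scheme.ΓSpecIso_inv_naturality, ConcreteCategory.comp_apply]
      refine (congrArg _ hr).trans ?_
      exact ConcreteCategory.congr_hom (Iso.hom_inv_id (Scheme.ΓSpecIso (CommRingCat.of (R ⧸ m)))) a
    refine ⟨r, ?_⟩
    have hi : ∀ i, x i - r • (1 : Γ(X, W i)) ∈ m • (⊤ : Submodule R Γ(X, W i)) := by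
      intro i
      refine (hmemI m _).mpr (mem_map_of_app_eq_zero ξ m (hW i) _ ?_)
      rw [map_sub, sub_eq_zero, Algebra.smul_def, mul_one, RingHom.algebraMap_toAlgebra, ← hg i, ← ha, ← hr]
      have e : (Scheme.ΓSpecIso R).inv ≫ (quotBase m).appTop ≫ (pullback.snd ξ (quotBase m)).appTop ≫
          (pullback ξ (quotBase m)).presheaf.map (homOfLE (le_top : ι ⁻¹ᵁ W i ≤ ⊤)).op =
          ringMap ξ (W i) ≫ ι.app (W i) := by
        rw [← Scheme.Hom.comp_appTop_assoc, ← pullback.condition, Scheme.Hom.comp_appTop_assoc, ringMap,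
          Category.assoc]
        congr 1
        simp only [Scheme.Hom.appLE, Category.assoc, Scheme.Hom.naturality]
        rfl
      exact ConcreteCategory.congr_hom e r
    rw [← Finset.univ_sum_single (x - r • (1 : ∀ i, Γ(X, W i)))]
    refine Submodule.sum_mem _ fun i _ => ?_
    have h := Submodule.mem_map_of_mem (f := LinearMap.single R (fun i => Γ(X, W i)) i) (hi i)
    rw [Submodule.map_smul''] at h
    exact Submodule.smul_mono le_rfl le_top h
  obtain ⟨r, hr⟩ := exists_sub_mem_pow m d 1 he H n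
    (fun i => X.presheaf.map (homOfLE (le_top : W i ≤ ⊤)).op φ) (by
      have : d (fun i => X.presheaf.map (homOfLE (le_top : W i ≤ ⊤)).op φ) = 0 := by
        funext p
        simp only [d, LinearMap.coe_mk, AddHom.coe_mk, ← ConcreteCategory.comp_apply, ← Functor.map_comp,
          Pi.zero_apply, sub_eq_zero]
        rfl
      rw [this]; exact Submodule.zero_mem _)
  refine ⟨r, fun i => (hmemI (m ^ n) _).mp ?_⟩
  have h := Submodule.mem_map_of_mem (f := LinearMap.proj (φ := fun i : κ => Γ(X, W i)) i) hr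
  rw [Submodule.map_smul''] at h
  have h2 := Submodule.smul_mono le_rfl le_top h
  simpa [Algebra.smul_def, RingHom.algebraMap_toAlgebra] using h2

omit [m.IsMaximal] [IsNoetherianRing R] in
theorem eq_of_pullback_appTop_eq [Flat ξ] [Surjective ξ] [QuasiCompact ξ] (φ : Γ(X, ⊤))
    (h : (pullback.fst ξ ξ).appTop φ = (pullback.snd ξ ξ).appTop φ) : ∃ r : R, ringMap ξ ⊤ r = φ := by
  let A : CommRingCat.{u} := CommRingCat.of (Polynomial (ULift.{u} ℤ))
  let c : A ⟶ Γ(X, ⊤) := CommRingCat.ofHom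
    (Polynomial.eval₂RingHom ((Int.castRingHom Γ(X, ⊤)).comp ULift.ringEquiv.toRingHom) φ)
  let g : X ⟶ Spec A := X.toSpecΓ ≫ Spec.map c
  have hc : c ≫ (pullback.fst ξ ξ).appTop = c ≫ (pullback.snd ξ ξ).appTop := by
    ext1
    refine Polynomial.ringHom_ext (fun a => ?_) ?_
    · obtain ⟨a⟩ := a
      simp [c]
    · simpa [c] using h
  have hkey : ∀ {T : Scheme.{u}} (a b : T ⟶ X), a ≫ ξ = b ≫ ξ → a ≫ g = b ≫ g := by
    intro T a b hab
    have hg : pullback.fst ξ ξ ≫ g = pullback.snd ξ ξ ≫ g := by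
      simp only [g, Scheme.toSpecΓ_naturality_assoc, ← Spec.map_comp, hc]
    calc a ≫ g = pullback.lift a b hab ≫ pullback.fst ξ ξ ≫ g := by rw [pullback.lift_fst_assoc]
      _ = pullback.lift a b hab ≫ pullback.snd ξ ξ ≫ g := by rw [hg]
      _ = b ≫ g := by rw [pullback.lift_snd_assoc]
  let u : Spec R ⟶ Spec A := EffectiveEpi.desc ξ g hkey
  refine ⟨(Scheme.ΓSpecIso R).hom (u.appTop ((Scheme.ΓSpecIso A).inv Polynomial.X)), ?_⟩
  have h1 : (Scheme.ΓSpecIso A).inv ≫ u.appTop ≫ (Scheme.ΓSpecIso R).hom ≫ ringMap ξ ⊤ = c := by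
    rw [ringMap, Iso.hom_inv_id_assoc]
    have h2 : ξ.appLE ⊤ ⊤ (by simp) = ξ.appTop := by
      rw [Scheme.Hom.appTop, Scheme.Hom.app_eq_appLE]; rfl
    rw [h2, ← Scheme.Hom.comp_appTop, EffectiveEpi.fac ξ g hkey]
    simp only [g, Scheme.Hom.comp_appTop, Scheme.toSpecΓ_appTop]
    rw [← Scheme.ΓSpecIso_inv_naturality_assoc, Iso.inv_hom_id, Category.comp_id]
  have h3 := ConcreteCategory.congr_hom h1 Polynomial.X
  refine h3.trans ?_
  exact Polynomial.eval₂_X _ _

omit [m.IsMaximal] in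
/-- A proper flat scheme over a noetherian local ring whose closed fibre has no functions but constants
has no functions but constants. -/
theorem surjective_ringMap_of_isLocalRing [IsLocalRing R] [IsProper ξ] [Flat ξ] [Surjective ξ]
    (hΓ : Function.Surjective (pullback.snd ξ (quotBase (IsLocalRing.maximalIdeal R))).appTop.hom) :
    Function.Surjective (ringMap ξ ⊤).hom := by
  intro φ
  apply eq_of_pullback_appTop_eq
  set p₁ := pullback.fst ξ ξ with hp₁
  set p₂ := pullback.snd ξ ξ with hp₂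
  haveI : IsNoetherianRing R := inferInstance
  haveI : IsLocallyNoetherian (pullback ξ ξ) := LocallyOfFiniteType.isLocallyNoetherian (p₁ ≫ ξ)
  haveI : CompactSpace X := QuasiCompact.compactSpace_of_compactSpace ξ
  obtain ⟨s, hsfin, hs⟩ := isCompact_iff_finite_and_eq_biUnion_affineOpens.mp
    (show IsCompact ((⊤ : X.Opens) : Set X) from isCompact_univ)
  haveI := hsfin.to_subtype
  let W : s → X.Opens := fun i => i.1.1
  have hcov : iSup W = ⊤ := by rw [hs, iSup_subtype']
  have hmem : ∀ x : X, ∃ i, x ∈ W i := fun x => Opens.mem_iSup.mp (hcov ▸ trivial : x ∈ iSup W)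
  have hclosed : ∀ q : ↥(pullback ξ ξ), (p₁ ≫ ξ) q = IsLocalRing.closedPoint R →
      (pullback ξ ξ).presheaf.germ ⊤ q trivial (p₁.appTop φ - p₂.appTop φ) = 0 := by
    intro q hq
    set germ := (pullback ξ ξ).presheaf.germ ⊤ q trivial
    let ρ : R ⟶ (pullback ξ ξ).presheaf.stalk q := ringMap ξ ⊤ ≫ p₁.appTop ≫ germ
    have hρ : ringMap ξ ⊤ ≫ p₂.appTop ≫ germ = ρ := by
      have h2 : ξ.appLE ⊤ ⊤ (by simp) = ξ.appTop := by
        rw [Scheme.Hom.appTop, Scheme.Hom.app_eq_appLE]; rfl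
      simp only [ρ, ringMap, h2, Category.assoc, ← Scheme.Hom.comp_appTop_assoc, hp₁, hp₂, pullback.condition]
    -- the key congruence for one of the two projections
    have hp : ∀ (p : pullback ξ ξ ⟶ X), ringMap ξ ⊤ ≫ p.appTop ≫ germ = ρ →
        ∀ (i : s) (n : ℕ) (hi : p q ∈ W i) (r : R),
          X.presheaf.map (homOfLE (le_top : W i ≤ ⊤)).op φ - ringMap ξ (W i) r ∈
            ((IsLocalRing.maximalIdeal R) ^ n).map (ringMap ξ (W i)).hom →
          germ (p.appTop φ) - ρ r ∈ ((IsLocalRing.maximalIdeal R).map ρ.hom) ^ n := by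
      intro p hpρ i n hi r hr
      let ψ : Γ(X, W i) ⟶ (pullback ξ ξ).presheaf.stalk q :=
        X.presheaf.germ (W i) (p q) hi ≫ p.stalkMap q
      have e1 : X.presheaf.map (homOfLE (le_top : W i ≤ ⊤)).op ≫ ψ = p.appTop ≫ germ := by
        simp only [ψ, Scheme.Hom.germ_stalkMap]
        rw [Scheme.Hom.naturality_assoc, (pullback ξ ξ).presheaf.germ_res]
        rfl
      have e2 : ringMap ξ (W i) ≫ ψ = ρ := by
        rw [← ringMap_res ξ (le_top : W i ≤ ⊤), Category.assoc, e1, hpρ]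
      have h := Ideal.mem_map_of_mem ψ.hom hr
      rw [Ideal.map_map, ← CommRingCat.hom_comp, e2, Ideal.map_pow, map_sub] at h
      have h5 : ψ.hom (X.presheaf.map (homOfLE (le_top : W i ≤ ⊤)).op φ) = germ (p.appTop φ) :=
        ConcreteCategory.congr_hom e1 φ
      have h6 : ψ.hom (ringMap ξ (W i) r) = ρ r := ConcreteCategory.congr_hom e2 r
      rw [h5, h6] at h
      exact h
    obtain ⟨i, hi⟩ := hmem (p₁ q)
    obtain ⟨k, hk⟩ := hmem (p₂ q)
    have hI : (IsLocalRing.maximalIdeal R).map ρ.hom ≠ ⊤ := by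
      intro htop
      have hle : (IsLocalRing.maximalIdeal R).map ρ.hom ≤ IsLocalRing.maximalIdeal _ := by
        rw [Ideal.map_le_iff_le_comap]
        intro r hr
        rw [Ideal.mem_comap, IsLocalRing.mem_maximalIdeal, mem_nonunits_iff]
        intro hu
        have h2 : ξ.appLE ⊤ ⊤ (by simp) = ξ.appTop := by
          rw [Scheme.Hom.appTop, Scheme.Hom.app_eq_appLE]; rfl
        have hq2 : q ∈ (pullback ξ ξ).basicOpen ((p₁ ≫ ξ).appTop ((Scheme.ΓSpecIso R).inv r)) := by
          rw [Scheme.mem_basicOpen_top]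
          simpa [ρ, ringMap, h2, germ] using hu
        rw [← Scheme.Hom.preimage_basicOpen_top, basicOpen_eq_of_affine] at hq2
        change (p₁ ≫ ξ) q ∈ PrimeSpectrum.basicOpen r at hq2
        rw [hq] at hq2
        exact hq2 hr
      exact (IsLocalRing.maximalIdeal.isMaximal _).ne_top (top_le_iff.mp (htop ▸ hle))
    rw [← Ideal.mem_bot, ← Ideal.iInf_pow_eq_bot_of_isLocalRing _ hI, Ideal.mem_iInf]
    intro n
    obtain ⟨r, hr⟩ := exists_forall_sub_mem_pow ξ W (fun i => i.1.2) hcov hΓ φ n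
    rw [map_sub, ← sub_sub_sub_cancel_right _ _ (ρ r)]
    exact sub_mem (hp p₁ rfl i n hi r (hr i)) (hp p₂ hρ k n hk r (hr k))
  -- every point specialises to the closed fibre
  rw [← sub_eq_zero]
  set δ := p₁.appTop φ - p₂.appTop φ
  let Z : Set ↥(pullback ξ ξ) := {q | (pullback ξ ξ).presheaf.germ ⊤ q trivial δ ≠ 0}
  have hZ : IsClosed Z := by
    rw [← isOpen_compl_iff, isOpen_iff_forall_mem_open]
    intro q hq
    simp only [Z, Set.mem_compl_iff, Set.mem_ofPred_eq, not_not] at hq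
    rw [← map_zero ((pullback ξ ξ).presheaf.germ ⊤ q trivial).hom] at hq
    obtain ⟨V, hqV, i₁, i₂, hV⟩ := (pullback ξ ξ).presheaf.germ_eq (U := ⊤) (V := ⊤) q trivial trivial _ _ hq
    refine ⟨V, fun q' hq' => ?_, V.isOpen, hqV⟩
    simp only [Z, Set.mem_compl_iff, Set.mem_ofPred_eq, not_not]
    rw [← (pullback ξ ξ).presheaf.germ_res_apply i₁ q' hq', hV, map_zero, map_zero]
  have hempty : ∀ q, q ∉ Z := by
    intro q hq
    have hcl : IsClosed ((p₁ ≫ ξ) '' Z) := (p₁ ≫ ξ).isClosedMap _ hZ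
    obtain ⟨q', hq', e⟩ := (IsLocalRing.specializes_closedPoint ((p₁ ≫ ξ) q)).mem_closed hcl ⟨q, hq, rfl⟩
    exact hq' (hclosed q' e)
  refine TopCat.Presheaf.section_ext (pullback ξ ξ).sheaf ⊤ _ _ fun q _ => ?_
  refine Eq.trans ?_ (map_zero _).symm
  have h := hempty q
  simp only [Z, Set.mem_ofPred_eq, not_not] at h
  exact h

end Groth.Agent.RigidRel
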