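import Groth.Agent.Lib.RigidRel.Dev
import Groth.Agent.Lib.FlatH4.NoethApprox
import Groth.Agent.Lib.FlatH4.DescendIso
import Groth.Agent.Lib.FlatH4.FlatDescent
import Mathlib.RingTheory.Filtration
import Mathlib.RingTheory.FiniteStability
import Mathlib.RingTheory.Flat.FaithfullyFlat.Basic
import Mathlib.RingTheory.Flat.Stability
import Mathlib.RingTheory.LocalRing.ResidueField.Ideal
import Mathlib.RingTheory.LocalProperties.Submodule

/-!
# Global functions constant on the fibres of a flat finitely presented cover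

If `B ⇉ C` are flat finitely presented algebras over an arbitrary ring `R` whose equalizer is
`κ(p)` at every prime `p`, then every element of the equalizer satisfies `x ⊗ 1 = 1 ⊗ x`.
-/

universe u

open TensorProduct

set_option linter.style.haveILetI false

namespace Groth.Agent.RigidRel

theorem mem_smul_top_of_map_mk_eq_zero {A S B : Type u} [CommRing A] [CommRing S] [Algebra A S]
    [CommRing B] [Algebra A B] (I : Ideal S) (z : S ⊗[A] B)
    (hz : Algebra.TensorProduct.map (Ideal.Quotient.mkₐ A I) (AlgHom.id A B) z = 0) :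
    z ∈ I • (⊤ : Submodule S (S ⊗[A] B)) := by
  let i : I.restrictScalars A →ₗ[A] S := (I.restrictScalars A).subtype
  let q : S →ₗ[A] S ⧸ I := (Ideal.Quotient.mkₐ A I).toLinearMap
  have hex : Function.Exact i q := fun s => by
    refine Ideal.Quotient.eq_zero_iff_mem.trans ⟨fun h => ⟨⟨s, h⟩, rfl⟩, ?_⟩
    rintro ⟨a, rfl⟩
    exact a.2
  obtain ⟨w, rfl⟩ := (rTensor_exact B hex Ideal.Quotient.mk_surjective z).1 hz
  clear hz
  induction w using TensorProduct.induction_on with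
  | zero => simp
  | tmul a b =>
    rw [LinearMap.rTensor_tmul, show i a ⊗ₜ[A] b = (a : S) • ((1 : S) ⊗ₜ[A] b) by
      rw [TensorProduct.smul_tmul', smul_eq_mul, mul_one]; rfl]
    exact Submodule.smul_mem_smul a.2 trivial
  | add v w hv hw => rw [map_add]; exact add_mem hv hw

theorem map_mk_eq_zero_of_mem_smul_top {A S B : Type u} [CommRing A] [CommRing S] [Algebra A S]
    [CommRing B] [Algebra A B] (I : Ideal S) (z : S ⊗[A] B)
    (hz : z ∈ I • (⊤ : Submodule S (S ⊗[A] B))) :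
    Algebra.TensorProduct.map (Ideal.Quotient.mkₐ A I) (AlgHom.id A B) z = 0 := by
  refine Submodule.smul_induction_on hz (fun a ha y _ => ?_) fun v w hv hw => by rw [map_add, hv, hw, add_zero]
  rw [Algebra.smul_def, map_mul, Algebra.TensorProduct.algebraMap_apply,
    Algebra.TensorProduct.map_tmul, Algebra.algebraMap_self_apply, Ideal.Quotient.mkₐ_eq_mk,
    Ideal.Quotient.eq_zero_iff_mem.mpr ha, TensorProduct.zero_tmul, zero_mul]

/-- The noetherian statement, at a prime of `B ⊗ B`. -/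
theorem exists_notMem_mul_eq_zero {A B C : Type u} [CommRing A] [IsNoetherianRing A] [CommRing B]
    [Algebra A B] [CommRing C] [Algebra A C] [Module.Flat A B] [Module.Flat A C]
    [Algebra.FiniteType A B] (d₁ d₂ : B →ₐ[A] C) (κ : Type u) [Field κ] [Algebra A κ]
    (H : ∀ y : κ ⊗[A] B, Algebra.TensorProduct.map (AlgHom.id A κ) d₁ y =
      Algebra.TensorProduct.map (AlgHom.id A κ) d₂ y → ∃ c : κ, y = c ⊗ₜ 1)
    (x : B) (hx : d₁ x = d₂ x) (Q : Ideal (B ⊗[A] B)) [Q.IsPrime]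
    (hQ : Q.comap (algebraMap A (B ⊗[A] B)) = RingHom.ker (algebraMap A κ)) :
    ∃ s ∉ Q, s * (x ⊗ₜ[A] 1 - 1 ⊗ₜ[A] x) = 0 := by
  haveI : IsNoetherianRing (B ⊗[A] B) := by
    haveI : Algebra.FiniteType A (B ⊗[A] B) :=
      Algebra.FiniteType.trans (S := B) ‹_› inferInstance
    exact Algebra.FiniteType.isNoetherianRing A _
  let p : Ideal A := Q.comap (algebraMap A (B ⊗[A] B))
  let S := Localization.AtPrime p
  let L := Localization.AtPrime Q
  haveI : IsNoetherianRing L := IsLocalization.isNoetherianRing Q.primeCompl L inferInstance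
  -- the residue map to `κ`
  have hπu : ∀ a : p.primeCompl, IsUnit (Algebra.ofId A κ a) := fun a => by
    refine isUnit_iff_ne_zero.mpr fun h => a.2 ?_
    exact hQ.ge h
  let π : S →ₐ[A] κ := IsLocalization.liftAlgHom (M := p.primeCompl) hπu
  let m : Ideal S := IsLocalRing.maximalIdeal S
  have hπm : ∀ a ∈ m, π.toRingHom a = 0 := fun a ha => by
    obtain ⟨b, t, rfl⟩ := IsLocalization.exists_mk'_eq p.primeCompl a
    have hb : b ∈ p := (IsLocalization.AtPrime.mk'_mem_maximal_iff S p b t).1 ha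
    replace hb : algebraMap A κ b = 0 := hQ.le hb
    show π (IsLocalization.mk' S b t) = 0
    simp [π, IsLocalization.lift_mk', hb]
  let K := S ⧸ m
  letI : Field K := Ideal.Quotient.field m
  let πK : K →ₐ[A] κ := Ideal.Quotient.liftₐ m π hπm
  -- the map to the local ring at `Q`
  have hgu : ∀ a : p.primeCompl, IsUnit (Algebra.ofId A L a) := fun a => by
    have ha : algebraMap A (B ⊗[A] B) a ∈ Q.primeCompl := a.2
    have := IsLocalization.map_units L (⟨_, ha⟩ : Q.primeCompl)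
    rwa [← IsScalarTower.algebraMap_apply] at this
  let g : S →ₐ[A] L := IsLocalization.liftAlgHom (M := p.primeCompl) hgu
  let I : Ideal L := m.map g
  have hI : I ≠ ⊤ := by
    intro htop
    have hle : I ≤ IsLocalRing.maximalIdeal L := by
      refine Ideal.map_le_iff_le_comap.2 fun a ha => ?_
      obtain ⟨b, t, rfl⟩ := IsLocalization.exists_mk'_eq p.primeCompl a
      have hb : algebraMap A (B ⊗[A] B) b ∈ Q := (IsLocalization.AtPrime.mk'_mem_maximal_iff S p b t).1 ha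
      have ht : g (IsLocalization.mk' S b t) * algebraMap A L t = algebraMap A L b := by
        rw [← g.commutes, ← map_mul, IsLocalization.mk'_spec, g.commutes]
      rw [Ideal.mem_comap, ← Ideal.mul_unit_mem_iff_mem _ (hgu t)]
      show g (IsLocalization.mk' S b t) * algebraMap A L t ∈ _
      rw [ht]
      rw [IsScalarTower.algebraMap_apply A (B ⊗[A] B) L]
      exact (IsLocalization.AtPrime.to_map_mem_maximal_iff L Q _).2 hb
    exact (IsLocalRing.maximalIdeal.isMaximal L).ne_top (top_le_iff.1 (htop.symm.le.trans hle))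
  -- the dévissage data
  let d : S ⊗[A] B →ₗ[S] S ⊗[A] C := (d₁.toLinearMap - d₂.toLinearMap).baseChange S
  let e : S ⊗[A] B := 1 ⊗ₜ 1
  have hde : d e = 0 := by simp [d, e]
  have hdx : d ((1 : S) ⊗ₜ[A] x) = 0 := by simp [d, hx]
  let ρB := Algebra.TensorProduct.map (Ideal.Quotient.mkₐ A m) (AlgHom.id A B)
  let ρC := Algebra.TensorProduct.map (Ideal.Quotient.mkₐ A m) (AlgHom.id A C)
  let uB : S ⊗[A] B →ₐ[A] L := Algebra.TensorProduct.lift g
    ((IsScalarTower.toAlgHom A (B ⊗[A] B) L).comp Algebra.TensorProduct.includeLeft) fun _ _ => Commute.all _ _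
  let vB : S ⊗[A] B →ₐ[A] L := Algebra.TensorProduct.lift g
    ((IsScalarTower.toAlgHom A (B ⊗[A] B) L).comp Algebra.TensorProduct.includeRight) fun _ _ => Commute.all _ _
  have hmapI : ∀ (w : S ⊗[A] B →ₐ[A] L), (∀ s, w (algebraMap S _ s) = g s) → ∀ (n : ℕ) (z : S ⊗[A] B),
      z ∈ m ^ n • (⊤ : Submodule S (S ⊗[A] B)) → w z ∈ I ^ n := fun w hw n z hz => by
    refine Submodule.smul_induction_on hz (fun a ha y _ => ?_) fun v u hv hu => by
      rw [map_add]; exact add_mem hv hu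
    erw [Algebra.smul_def a y]
    rw [map_mul, hw, ← Ideal.map_pow]
    exact Ideal.mul_mem_right _ _ (Ideal.mem_map_of_mem _ ha)
  have hu : ∀ s, uB (algebraMap S _ s) = g s := fun s => by
    rw [Algebra.TensorProduct.algebraMap_apply]; simp [uB, ← Algebra.TensorProduct.one_def]
  have hv : ∀ s, vB (algebraMap S _ s) = g s := fun s => by
    rw [Algebra.TensorProduct.algebraMap_apply]; simp [vB, ← Algebra.TensorProduct.one_def]
  -- the condition on the closed fibre
  have Hm : ∀ y, d y ∈ m • (⊤ : Submodule S (S ⊗[A] C)) →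
      ∃ r : S, y - r • e ∈ m • (⊤ : Submodule S (S ⊗[A] B)) := by
    intro y hy
    let V := K ⊗[A] B
    let v : V := ρB y
    have hρd : ∀ z, Algebra.TensorProduct.map (AlgHom.id A K) d₁ (ρB z) -
        Algebra.TensorProduct.map (AlgHom.id A K) d₂ (ρB z) = ρC (d z) := fun z => by
      induction z using TensorProduct.induction_on with
      | zero => simp
      | tmul a b => simp [d, ρB, ρC, K, tmul_sub]
      | add a b ha hb => simp only [map_add, ← ha, ← hb]; abel
    have hv0 : Algebra.TensorProduct.map (AlgHom.id A K) d₁ v = Algebra.TensorProduct.map (AlgHom.id A K) d₂ v := by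
      rw [← sub_eq_zero]
      exact (hρd y).trans (map_mk_eq_zero_of_mem_smul_top m _ hy)
    let jB := Algebra.TensorProduct.map πK (AlgHom.id A B)
    let jC := Algebra.TensorProduct.map πK (AlgHom.id A C)
    have hcomm : ∀ (dd : B →ₐ[A] C) (z : V), Algebra.TensorProduct.map (AlgHom.id A κ) dd (jB z) =
        jC (Algebra.TensorProduct.map (AlgHom.id A K) dd z) := fun dd z => by
      induction z using TensorProduct.induction_on with
      | zero => simp
      | tmul a b => simp [jB, jC]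
      | add a b ha hb => simp only [map_add, ha, hb]
    obtain ⟨c, hc⟩ := H (jB v) (by rw [hcomm, hcomm, hv0])
    -- `1 ≠ 0` on the fibre
    have hne : (1 : K) ⊗ₜ[A] (1 : B) ≠ 0 := by
      intro h0
      have h1 : e ∈ m ^ 1 • (⊤ : Submodule S (S ⊗[A] B)) := by
        rw [pow_one]
        exact mem_smul_top_of_map_mk_eq_zero m e (by simpa [e] using h0)
      have h2 := hmapI uB hu 1 e h1
      rw [pow_one, show uB e = 1 from map_one uB] at h2
      exact hI ((Ideal.eq_top_iff_one I).2 h2)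
    obtain ⟨f, hf⟩ := (LinearMap.toSpanSingleton K V (1 ⊗ₜ 1)).exists_leftInverse_of_injective
      (LinearMap.ker_toSpanSingleton (R := K) (M := V) hne)
    have hf1 : f (1 ⊗ₜ 1) = 1 := by simpa using DFunLike.congr_fun hf 1
    -- extend `f` to `κ`
    let F : κ ⊗[A] B →ₗ[A] κ := TensorProduct.lift
      ((LinearMap.mul A κ).compl₂ (πK.toLinearMap.comp ((f.restrictScalars A).comp
        ((TensorProduct.mk A K B) 1))))
    have hF : ∀ z : V, F (jB z) = πK (f z) := fun z => by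
      induction z using TensorProduct.induction_on with
      | zero => simp
      | tmul a b =>
        simp only [F, jB, Algebra.TensorProduct.map_tmul, AlgHom.id_apply, TensorProduct.lift.tmul,
          LinearMap.compl₂_apply, LinearMap.mul_apply_apply, LinearMap.comp_apply, TensorProduct.mk_apply,
          LinearMap.restrictScalars_apply, AlgHom.toLinearMap_apply]
        rw [← map_mul]
        refine congrArg πK ?_
        show a • f ((1 : K) ⊗ₜ[A] b) = _
        rw [← map_smul, TensorProduct.smul_tmul', smul_eq_mul, mul_one]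
      | add a b ha hb => simp only [map_add, ha, hb]
    have hFc : F (c ⊗ₜ 1) = c := by
      simp [F]
      show c * πK (f ((1 : K) ⊗ₜ[A] (1 : B))) = c
      rw [hf1, map_one, mul_one]
    have hcf : c = πK (f v) := by rw [← hFc, ← hc, hF]
    obtain ⟨r, hr⟩ := Ideal.Quotient.mk_surjective (f v)
    have hjinj : Function.Injective jB :=
      Module.Flat.rTensor_preserves_injective_linearMap (M := B) πK.toLinearMap πK.toRingHom.injective
    have hveq : v = f v ⊗ₜ 1 := hjinj (by rw [hc, hcf]; simp [jB])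
    refine ⟨r, mem_smul_top_of_map_mk_eq_zero m _ ?_⟩
    rw [map_sub, sub_eq_zero]
    refine hveq.trans ?_
    simp only [e, TensorProduct.smul_tmul', smul_eq_mul, mul_one, Algebra.TensorProduct.map_tmul,
      AlgHom.id_apply, Ideal.Quotient.mkₐ_eq_mk, hr]
  -- Krull
  have hmem : ∀ n : ℕ, algebraMap (B ⊗[A] B) L (x ⊗ₜ 1 - 1 ⊗ₜ x) ∈ I ^ n := fun n => by
    obtain ⟨r, hr⟩ := exists_sub_mem_pow m d e hde Hm n ((1 : S) ⊗ₜ x) (by rw [hdx]; exact zero_mem _)
    have h1 := hmapI uB hu n _ hr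
    have h2 := hmapI vB hv n _ hr
    erw [map_sub, Algebra.smul_def r e, map_mul, hu, show uB e = 1 from map_one uB, mul_one] at h1
    erw [map_sub, Algebra.smul_def r e, map_mul, hv, show vB e = 1 from map_one vB, mul_one] at h2
    have h3 := sub_mem h1 h2
    rw [sub_sub_sub_cancel_right] at h3
    rw [map_sub]
    simpa [uB, vB] using h3
  have h0 : algebraMap (B ⊗[A] B) L (x ⊗ₜ 1 - 1 ⊗ₜ x) = 0 := by
    rw [← Ideal.mem_bot, ← Ideal.iInf_pow_eq_bot_of_isLocalRing I hI, Ideal.mem_iInf]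
    exact hmem
  obtain ⟨s, hs⟩ := (IsLocalization.map_eq_zero_iff Q.primeCompl L _).1 h0
  exact ⟨s, s.2, hs⟩

/-- The statement over a base with a noetherian model. -/
theorem tmul_comm_of_model {R B C T BT CT : Type u} [CommRing R] [CommRing B] [Algebra R B]
    [CommRing C] [Algebra R C] (d₁ d₂ : B →ₐ[R] C)
    (H : ∀ (p : Ideal R) [p.IsPrime], ∀ y : p.ResidueField ⊗[R] B,
      Algebra.TensorProduct.map (AlgHom.id R p.ResidueField) d₁ y =
        Algebra.TensorProduct.map (AlgHom.id R p.ResidueField) d₂ y →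
      ∃ c : p.ResidueField, y = c ⊗ₜ 1)
    (x : B) [CommRing T] [IsNoetherianRing T] [Algebra T R] [CommRing BT] [Algebra T BT]
    [CommRing CT] [Algebra T CT] [Module.Flat T BT] [Module.Flat T CT] [Algebra.FiniteType T BT]
    (eB : R ⊗[T] BT ≃ₐ[R] B) (eC : R ⊗[T] CT ≃ₐ[R] C) (e₁ e₂ : BT →ₐ[T] CT)
    (h₁ : ∀ b, eC (1 ⊗ₜ e₁ b) = d₁ (eB (1 ⊗ₜ b))) (h₂ : ∀ b, eC (1 ⊗ₜ e₂ b) = d₂ (eB (1 ⊗ₜ b)))
    (xT : BT) (hxT : eB (1 ⊗ₜ xT) = x) (hx : e₁ xT = e₂ xT) :
    x ⊗ₜ[R] (1 : B) = (1 : B) ⊗ₜ[R] x := by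
  letI : Algebra T B := ((algebraMap R B).comp (algebraMap T R)).toAlgebra
  haveI : IsScalarTower T R B := .of_algebraMap_eq fun _ => rfl
  let jB : BT →ₐ[T] B := (eB.toAlgHom.restrictScalars T).comp Algebra.TensorProduct.includeRight
  let ψ : BT ⊗[T] BT →ₐ[T] B ⊗[R] B := Algebra.TensorProduct.lift
    (((Algebra.TensorProduct.includeLeft : B →ₐ[R] B ⊗[R] B).restrictScalars T).comp jB)
    (((Algebra.TensorProduct.includeRight : B →ₐ[R] B ⊗[R] B).restrictScalars T).comp jB)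
    fun _ _ => Commute.all _ _
  rw [← sub_eq_zero]
  by_contra hne
  obtain ⟨Q, hQmax, hle⟩ := Ideal.exists_le_maximal
    (LinearMap.ker (LinearMap.toSpanSingleton (B ⊗[R] B) (B ⊗[R] B) (x ⊗ₜ[R] (1 : B) - (1 : B) ⊗ₜ[R] x)))
    fun htop => hne (by
      have := htop.ge (Submodule.mem_top : (1 : B ⊗[R] B) ∈ (⊤ : Ideal (B ⊗[R] B)))
      simpa using this)
  let QT := Q.comap ψ
  let p := Q.comap (algebraMap R (B ⊗[R] B))
  let κ := p.ResidueField
  let G₁ : κ ⊗[T] BT ≃ₐ[κ] κ ⊗[R] B :=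
    (Algebra.TensorProduct.cancelBaseChange T R κ κ BT).symm.trans
      (Algebra.TensorProduct.congr AlgEquiv.refl eB)
  let G₂ : κ ⊗[T] CT ≃ₐ[κ] κ ⊗[R] C :=
    (Algebra.TensorProduct.cancelBaseChange T R κ κ CT).symm.trans
      (Algebra.TensorProduct.congr AlgEquiv.refl eC)
  have hnat : ∀ (ee : BT →ₐ[T] CT) (dd : B →ₐ[R] C), (∀ b, eC (1 ⊗ₜ ee b) = dd (eB (1 ⊗ₜ b))) →
      ∀ z, Algebra.TensorProduct.map (AlgHom.id R κ) dd (G₁ z) =
        G₂ (Algebra.TensorProduct.map (AlgHom.id T κ) ee z) := fun ee dd hed z => by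
    induction z using TensorProduct.induction_on with
    | zero => simp
    | tmul a b => simp [G₁, G₂, hed]
    | add a b ha hb => simp only [map_add, ha, hb]
  obtain ⟨s, hs, hs0⟩ := exists_notMem_mul_eq_zero e₁ e₂ κ (fun y hy => by
    obtain ⟨c, hc⟩ := H p (G₁ y) (by rw [hnat e₁ d₁ h₁, hnat e₂ d₂ h₂, hy])
    refine ⟨c, G₁.injective (hc.trans ?_)⟩
    exact (G₁.commutes c).symm) xT hx QT (by
    ext t
    rw [Ideal.mem_comap, Ideal.mem_comap, RingHom.mem_ker, IsScalarTower.algebraMap_apply T R κ,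
      Ideal.algebraMap_residueField_eq_zero, Ideal.mem_comap, AlgHom.commutes,
      IsScalarTower.algebraMap_apply T R (B ⊗[R] B)])
  refine hs (hle ?_)
  rw [LinearMap.mem_ker, LinearMap.toSpanSingleton_apply, smul_eq_mul]
  have h3 := congrArg ψ hs0
  rw [map_mul, map_zero, map_sub] at h3
  simpa [ψ, jB, hxT, ← Algebra.TensorProduct.one_def] using h3

/-- Flat finitely presented algebras over a noetherian ring. -/
theorem exists_flat_model (A B : Type u) [CommRing A] [CommRing B] [Algebra A B]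
    [Algebra.FinitePresentation A B] [Module.Flat A B] :
    ∃ (R B₀ : Type u) (_ : CommRing R) (_ : CommRing B₀) (_ : Algebra R A) (_ : Algebra R B₀),
      Algebra.FiniteType ℤ R ∧ Algebra.FiniteType R B₀ ∧ Module.Flat R B₀ ∧
        Nonempty (A ⊗[R] B₀ ≃ₐ[A] B) := by
  obtain ⟨R, B₀, _, _, _, _, hR, hB₀, ⟨e⟩⟩ := Groth.Agent.FlatH4.exists_approx A B
  have : IsNoetherianRing R := Algebra.FiniteType.isNoetherianRing ℤ R
  have : Module.Flat A (A ⊗[R] B₀) := Module.Flat.of_linearEquiv e.toLinearEquiv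
  obtain ⟨R₁, hR₁, hflat⟩ := Groth.Agent.FlatH4.exists_subalgebra_flat R A B₀ B₀
  have : Algebra.FiniteType R R₁ := (Subalgebra.fg_iff_finiteType R₁).1 hR₁
  exact ⟨R₁, R₁ ⊗[R] B₀, inferInstance, inferInstance, inferInstance, inferInstance,
    Algebra.FiniteType.trans (S := R) hR inferInstance, inferInstance, hflat R₁ le_rfl hR₁,
    ⟨(Algebra.TensorProduct.cancelBaseChange R R₁ A A B₀).trans e⟩⟩

open FlatH4 in
theorem tmul_comm_of_common_base {R B C R₁ B₁ C₁ : Type u} [CommRing R] [CommRing B] [Algebra R B]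
    [CommRing C] [Algebra R C] (d₁ d₂ : B →ₐ[R] C)
    (H : ∀ (p : Ideal R) [p.IsPrime], ∀ y : p.ResidueField ⊗[R] B,
      Algebra.TensorProduct.map (AlgHom.id R p.ResidueField) d₁ y =
        Algebra.TensorProduct.map (AlgHom.id R p.ResidueField) d₂ y →
      ∃ c : p.ResidueField, y = c ⊗ₜ 1)
    (x : B) (hx : d₁ x = d₂ x) [CommRing R₁] [IsNoetherianRing R₁] [Algebra R₁ R] [CommRing B₁]
    [Algebra R₁ B₁] [CommRing C₁] [Algebra R₁ C₁] [Module.Flat R₁ B₁] [Module.Flat R₁ C₁]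
    [Algebra.FiniteType R₁ B₁] (eB₁ : R ⊗[R₁] B₁ ≃ₐ[R] B) (eC₁ : R ⊗[R₁] C₁ ≃ₐ[R] C) :
    x ⊗ₜ[R] (1 : B) = (1 : B) ⊗ₜ[R] x := by
  haveI : Algebra.FinitePresentation R₁ B₁ :=
    (Algebra.FinitePresentation.of_finiteType (R := R₁) (A := B₁)).1 inferInstance
  let D : (B →ₐ[R] C) → (R ⊗[R₁] B₁ →ₐ[R] R ⊗[R₁] C₁) := fun dd =>
    eC₁.symm.toAlgHom.comp (dd.comp eB₁.toAlgHom)
  obtain ⟨A₁, φ₁, hA₁, hφ₁⟩ := exists_lift_hom
    (((D d₁).restrictScalars R₁).comp Algebra.TensorProduct.includeRight)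
  obtain ⟨A₂, φ₂, hA₂, hφ₂⟩ := exists_lift_hom
    (((D d₂).restrictScalars R₁).comp Algebra.TensorProduct.includeRight)
  obtain ⟨A₃, x₃, hA₃, hx₃⟩ := exists_subTensor_eq (eB₁.symm x)
  let A₀ := A₁ ⊔ A₂ ⊔ A₃
  let φ₁' := (inclTensor (le_sup_left.trans le_sup_left : A₁ ≤ A₀) C₁).comp φ₁
  let φ₂' := (inclTensor (le_sup_right.trans le_sup_left : A₂ ≤ A₀) C₁).comp φ₂
  let x₀ := inclTensor (le_sup_right : A₃ ≤ A₀) B₁ x₃
  have hDφ : ∀ (dd : R ⊗[R₁] B₁ →ₐ[R] R ⊗[R₁] C₁) (ψ : B₁ →ₐ[R₁] A₀ ⊗[R₁] C₁),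
      (∀ b, subTensor A₀ C₁ (ψ b) = dd (1 ⊗ₜ b)) →
      ∀ z, subTensor A₀ C₁ (extendHom A₀ ψ z) = dd (subTensor A₀ B₁ z) := by
    intro dd ψ hψ z
    induction z using TensorProduct.induction_on with
    | zero => simp
    | add v w hv hw => simp only [map_add, hv, hw]
    | tmul a c =>
      have hl : extendHom A₀ ψ (a ⊗ₜ c) = (a ⊗ₜ[R₁] (1 : C₁)) * ψ c := by
        simp [extendHom, Algebra.TensorProduct.algebraMap_apply]
      have hr : subTensor A₀ B₁ (a ⊗ₜ c) = algebraMap R (R ⊗[R₁] B₁) a * ((1 : R) ⊗ₜ[R₁] c) := by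
        simp [subTensor, Algebra.TensorProduct.algebraMap_apply]
      rw [hl, map_mul, hr, map_mul, dd.commutes, hψ]
      congr 1
  have hφ₁' : ∀ b, subTensor A₀ C₁ (φ₁' b) = D d₁ (1 ⊗ₜ b) := fun b =>
    (subTensor_inclTensor _ _).trans (hφ₁ b)
  have hφ₂' : ∀ b, subTensor A₀ C₁ (φ₂' b) = D d₂ (1 ⊗ₜ b) := fun b =>
    (subTensor_inclTensor _ _).trans (hφ₂ b)
  have hx₀ : subTensor A₀ B₁ x₀ = eB₁.symm x := (subTensor_inclTensor _ _).trans hx₃
  obtain ⟨T, hle, hT, hTeq⟩ := exists_forall_inclTensor_eq (ι := Unit) ((hA₁.sup hA₂).sup hA₃)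
    (fun _ => extendHom A₀ φ₁' x₀) (fun _ => extendHom A₀ φ₂' x₀) fun _ => by
      rw [hDφ _ _ hφ₁', hDφ _ _ hφ₂', hx₀]
      simp [D, hx]
  haveI : Algebra.FiniteType R₁ T := (Subalgebra.fg_iff_finiteType T).1 hT
  haveI : IsNoetherianRing T := Algebra.FiniteType.isNoetherianRing R₁ T
  have hcancel : ∀ {E : Type u} [CommRing E] [Algebra R₁ E] (z : T ⊗[R₁] E),
      Algebra.TensorProduct.cancelBaseChange R₁ T R R E (1 ⊗ₜ z) = subTensor T E z := by
    intro E _ _ z
    induction z using TensorProduct.induction_on with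
    | zero => simp
    | tmul a c => simp [subTensor, Subalgebra.smul_def]
    | add v w hv hw => rw [TensorProduct.tmul_add, map_add, map_add, hv, hw]
  have hnat : ∀ (ψ : B₁ →ₐ[R₁] A₀ ⊗[R₁] C₁) (z : A₀ ⊗[R₁] B₁),
      inclTensor hle C₁ (extendHom A₀ ψ z) =
        extendHom T ((inclTensor hle C₁).comp ψ) (inclTensor hle B₁ z) := by
    intro ψ z
    induction z using TensorProduct.induction_on with
    | zero => simp
    | add v w hv hw => simp only [map_add, hv, hw]
    | tmul a c => simp [extendHom, inclTensor, Algebra.TensorProduct.algebraMap_apply]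
  have hT' : ∀ (dd : B →ₐ[R] C) (ψ : B₁ →ₐ[R₁] A₀ ⊗[R₁] C₁),
      (∀ b, subTensor A₀ C₁ (ψ b) = D dd (1 ⊗ₜ b)) → ∀ z : T ⊗[R₁] B₁,
      subTensor T C₁ (extendHom T ((inclTensor hle C₁).comp ψ) z) = D dd (subTensor T B₁ z) := by
    intro dd ψ hψ z
    induction z using TensorProduct.induction_on with
    | zero => simp
    | add v w hv hw => simp only [map_add, hv, hw]
    | tmul a c =>
      have hl : extendHom T ((inclTensor hle C₁).comp ψ) (a ⊗ₜ c) =
          (a ⊗ₜ[R₁] (1 : C₁)) * inclTensor hle C₁ (ψ c) := by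
        simp [extendHom, Algebra.TensorProduct.algebraMap_apply]
      have hr : subTensor T B₁ (a ⊗ₜ c) = algebraMap R (R ⊗[R₁] B₁) a * ((1 : R) ⊗ₜ[R₁] c) := by
        simp [subTensor, Algebra.TensorProduct.algebraMap_apply]
      rw [hl, map_mul, subTensor_inclTensor, hr, map_mul, AlgHom.commutes, hψ]
      congr 1
  let eBT : R ⊗[T] (T ⊗[R₁] B₁) ≃ₐ[R] B := (Algebra.TensorProduct.cancelBaseChange R₁ T R R B₁).trans eB₁
  let eCT : R ⊗[T] (T ⊗[R₁] C₁) ≃ₐ[R] C := (Algebra.TensorProduct.cancelBaseChange R₁ T R R C₁).trans eC₁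
  refine tmul_comm_of_model d₁ d₂ H x eBT eCT (extendHom T ((inclTensor hle C₁).comp φ₁'))
    (extendHom T ((inclTensor hle C₁).comp φ₂')) (fun b => ?_) (fun b => ?_) (inclTensor hle B₁ x₀) ?_ ?_
  · show eC₁ (Algebra.TensorProduct.cancelBaseChange R₁ T R R C₁ _) =
      d₁ (eB₁ (Algebra.TensorProduct.cancelBaseChange R₁ T R R B₁ _))
    rw [hcancel, hcancel, hT' d₁ φ₁' hφ₁']
    simp [D]
  · show eC₁ (Algebra.TensorProduct.cancelBaseChange R₁ T R R C₁ _) =
      d₂ (eB₁ (Algebra.TensorProduct.cancelBaseChange R₁ T R R B₁ _))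
    rw [hcancel, hcancel, hT' d₂ φ₂' hφ₂']
    simp [D]
  · show eB₁ (Algebra.TensorProduct.cancelBaseChange R₁ T R R B₁ _) = x
    rw [hcancel, subTensor_inclTensor, hx₀, AlgEquiv.apply_symm_apply]
  · rw [← hnat, ← hnat, hTeq ()]

theorem tmul_comm_of_two_bases {R B C RB RC R₁ B₀ C₀ : Type u} [CommRing R] [CommRing B] [Algebra R B]
    [CommRing C] [Algebra R C] (d₁ d₂ : B →ₐ[R] C)
    (H : ∀ (p : Ideal R) [p.IsPrime], ∀ y : p.ResidueField ⊗[R] B,
      Algebra.TensorProduct.map (AlgHom.id R p.ResidueField) d₁ y =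
        Algebra.TensorProduct.map (AlgHom.id R p.ResidueField) d₂ y →
      ∃ c : p.ResidueField, y = c ⊗ₜ 1)
    (x : B) (hx : d₁ x = d₂ x) [CommRing RB] [CommRing RC] [CommRing R₁] [IsNoetherianRing R₁]
    [Algebra RB R] [Algebra RC R] [Algebra R₁ R] [Algebra RB R₁] [Algebra RC R₁]
    [IsScalarTower RB R₁ R] [IsScalarTower RC R₁ R] [CommRing B₀] [Algebra RB B₀] [CommRing C₀]
    [Algebra RC C₀] [Module.Flat RB B₀] [Module.Flat RC C₀] [Algebra.FiniteType RB B₀]
    (eB : R ⊗[RB] B₀ ≃ₐ[R] B) (eC : R ⊗[RC] C₀ ≃ₐ[R] C) : x ⊗ₜ[R] (1 : B) = (1 : B) ⊗ₜ[R] x :=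
  tmul_comm_of_common_base d₁ d₂ H x hx
    ((Algebra.TensorProduct.cancelBaseChange RB R₁ R R B₀).trans eB)
    ((Algebra.TensorProduct.cancelBaseChange RC R₁ R R C₀).trans eC)

open FlatH4 in
theorem tmul_comm_of_fibres {R B C : Type u} [CommRing R] [CommRing B] [Algebra R B] [CommRing C]
    [Algebra R C] [Module.Flat R B] [Module.Flat R C] [Algebra.FinitePresentation R B]
    [Algebra.FinitePresentation R C] (d₁ d₂ : B →ₐ[R] C)
    (H : ∀ (p : Ideal R) [p.IsPrime], ∀ y : p.ResidueField ⊗[R] B,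
      Algebra.TensorProduct.map (AlgHom.id R p.ResidueField) d₁ y =
        Algebra.TensorProduct.map (AlgHom.id R p.ResidueField) d₂ y →
      ∃ c : p.ResidueField, y = c ⊗ₜ 1)
    (x : B) (hx : d₁ x = d₂ x) : x ⊗ₜ[R] (1 : B) = (1 : B) ⊗ₜ[R] x := by
  obtain ⟨RB, B₀, _, _, _, _, hRB, hB₀, hBflat, ⟨eB⟩⟩ := exists_flat_model R B
  obtain ⟨RC, C₀, _, _, _, _, hRC, hC₀, hCflat, ⟨eC⟩⟩ := exists_flat_model R C
  let R₁ := RB ⊗[ℤ] RC
  let φ : R₁ →ₐ[ℤ] R := Algebra.TensorProduct.lift (algebraMap RB R).toIntAlgHom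
    (algebraMap RC R).toIntAlgHom fun _ _ => Commute.all _ _
  letI : Algebra R₁ R := φ.toRingHom.toAlgebra
  letI : Algebra RC R₁ := Algebra.TensorProduct.rightAlgebra
  haveI : IsScalarTower RB R₁ R := .of_algebraMap_eq fun r => by
    show algebraMap RB R r = φ (r ⊗ₜ 1)
    exact (((Algebra.TensorProduct.lift_tmul _ _ _ r 1).trans (by rw [map_one, mul_one]; rfl))).symm
  haveI : IsScalarTower RC R₁ R := .of_algebraMap_eq fun r => by
    show algebraMap RC R r = φ (1 ⊗ₜ r)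
    exact (((Algebra.TensorProduct.lift_tmul _ _ _ 1 r).trans (by rw [map_one, one_mul]; rfl))).symm
  haveI : IsNoetherianRing R₁ := by
    haveI : Algebra.FiniteType RB R₁ := inferInstanceAs (Algebra.FiniteType RB (RB ⊗[ℤ] RC))
    haveI := Algebra.FiniteType.isNoetherianRing ℤ RB
    exact Algebra.FiniteType.isNoetherianRing RB R₁
  let B₁ := R₁ ⊗[RB] B₀
  let C₁ := R₁ ⊗[RC] C₀
  exact tmul_comm_of_two_bases (R₁ := R₁) d₁ d₂ H x hx eB eC

/-- An element with `x ⊗ 1 = 1 ⊗ x` in a faithfully flat algebra comes from the base. -/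
theorem exists_algebraMap_eq_of_tmul_comm {R B : Type u} [CommRing R] [CommRing B] [Algebra R B]
    [Module.FaithfullyFlat R B] (x : B) (h : x ⊗ₜ[R] (1 : B) = (1 : B) ⊗ₜ[R] x) :
    ∃ r : R, algebraMap R B r = x := by
  let q := (LinearMap.range (Algebra.linearMap R B)).mkQ
  suffices q x = 0 by
    rw [Submodule.mkQ_apply, Submodule.Quotient.mk_eq_zero] at this
    obtain ⟨r, hr⟩ := this
    exact ⟨r, hr⟩
  rw [← Module.FaithfullyFlat.one_tmul_eq_zero_iff (R := R) (A := B) (M := B ⧸ LinearMap.range (Algebra.linearMap R B)) (q x)]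
  have h1 : q 1 = 0 := (Submodule.Quotient.mk_eq_zero _).2 ⟨1, map_one (algebraMap R B)⟩
  have h2 := congrArg (q.lTensor B) h
  simp only [LinearMap.lTensor_tmul, h1, TensorProduct.tmul_zero] at h2
  exact h2.symm

end Groth.Agent.RigidRel
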