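import Mathlib.RingTheory.Flat.Basic
import Mathlib.LinearAlgebra.TensorProduct.RightExactness
import Mathlib.LinearAlgebra.Dimension.Free
import Mathlib.LinearAlgebra.Basis.VectorSpace
import Mathlib.Algebra.Module.Torsion.Basic
import Mathlib.RingTheory.Ideal.Quotient.Basic

/-!
# Dévissage: the kernel of a map of flat modules modulo powers of a maximal ideal
-/

open TensorProduct

set_option linter.style.haveILetI false

namespace Groth.Agent.RigidRel

universe u

variable {R : Type u} [CommRing R]

/-- `J ⊗ C → C`. -/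
noncomputable def idealMul (J : Ideal R) (C : Type*) [AddCommGroup C] [Module R C] :
    J ⊗[R] C →ₗ[R] C :=
  (TensorProduct.lid R C).toLinearMap ∘ₗ (Submodule.subtype J).rTensor C

theorem idealMul_tmul (J : Ideal R) (C : Type*) [AddCommGroup C] [Module R C] (a : J) (x : C) :
    idealMul J C (a ⊗ₜ x) = (a : R) • x := by
  simp [idealMul]

theorem idealMul_injective (J : Ideal R) (C : Type*) [AddCommGroup C] [Module R C] [Module.Flat R C] :
    Function.Injective (idealMul J C) :=
  (TensorProduct.lid R C).injective.comp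
    (Module.Flat.rTensor_preserves_injective_linearMap _ Subtype.val_injective)

theorem range_idealMul (J : Ideal R) (C : Type*) [AddCommGroup C] [Module R C] :
    LinearMap.range (idealMul J C) = J • (⊤ : Submodule R C) := by
  refine le_antisymm ?_ ?_
  · rintro _ ⟨z, rfl⟩
    induction z using TensorProduct.induction_on with
    | zero => simp
    | tmul a x => rw [idealMul_tmul]; exact Submodule.smul_mem_smul a.2 trivial
    | add a b ha hb => rw [map_add]; exact add_mem ha hb
  · rw [Submodule.smul_le]
    intro a ha x _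
    exact ⟨⟨a, ha⟩ ⊗ₜ x, idealMul_tmul J C _ x⟩

variable (m : Ideal R) [m.IsMaximal]
  {C₀ C₁ : Type u} [AddCommGroup C₀] [Module R C₀] [AddCommGroup C₁] [Module R C₁]
  (d : C₀ →ₗ[R] C₁) (e : C₀)

theorem exists_tmul_eq_of_lTensor_eq_zero {V : Type u} [AddCommGroup V] [Module R V] [Module (R ⧸ m) V]
    [IsScalarTower R (R ⧸ m) V]
    (H : ∀ x, d x ∈ m • (⊤ : Submodule R C₁) → ∃ r : R, x - r • e ∈ m • (⊤ : Submodule R C₀))
    (z : V ⊗[R] C₀) (hz : d.lTensor V z = 0) : ∃ v : V, z = v ⊗ₜ e := by
  classical
  letI : Field (R ⧸ m) := Ideal.Quotient.field m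
  let b := Module.Free.chooseBasis (R ⧸ m) V
  -- `m` kills `V ⊗ C`
  have hkill : ∀ (v : V) (y : C₀), y ∈ m • (⊤ : Submodule R C₀) → v ⊗ₜ[R] y = 0 := by
    intro v y hy
    refine Submodule.smul_induction_on hy (fun a ha x _ => ?_) (fun x y hx hy => by rw [tmul_add, hx, hy, add_zero])
    rw [← smul_tmul, ← algebraMap_smul (R ⧸ m) a v, Ideal.Quotient.algebraMap_eq,
      Ideal.Quotient.eq_zero_iff_mem.mpr ha, zero_smul, zero_tmul]
  let T : ((Module.Free.ChooseBasisIndex (R ⧸ m) V) →₀ C₀) →ₗ[R] V ⊗[R] C₀ :=
    Finsupp.lsum R fun i => (TensorProduct.mk R V C₀) (b i)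
  obtain ⟨x, rfl⟩ : z ∈ LinearMap.range T := by
    have hall : ∀ (v : V) (y : C₀), v ⊗ₜ[R] y ∈ LinearMap.range T := by
      intro v y
      induction b.mem_span v using Submodule.span_induction with
      | mem w hw =>
        obtain ⟨i, rfl⟩ := hw
        exact ⟨Finsupp.single i y, by simp [T]⟩
      | zero => simp
      | add a b _ _ ha hb => rw [add_tmul]; exact add_mem ha hb
      | smul c w _ hw =>
        obtain ⟨c, rfl⟩ := Ideal.Quotient.mk_surjective c
        rw [← Ideal.Quotient.algebraMap_eq, algebraMap_smul, ← smul_tmul']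
        exact Submodule.smul_mem _ _ hw
    clear hz
    induction z using TensorProduct.induction_on with
    | zero => simp
    | tmul v y => exact hall v y
    | add a b ha hb => exact add_mem ha hb
  have hx : ∀ i, ∃ r : R, x i - r • e ∈ m • (⊤ : Submodule R C₀) := by
    intro i
    refine H _ ?_
    let lam : V →ₗ[R] R ⧸ m := (b.coord i).restrictScalars R
    let ev : V ⊗[R] C₁ →ₗ[R] C₁ ⧸ m • (⊤ : Submodule R C₁) :=
      TensorProduct.lift (LinearMap.mk₂ R (fun v c => (lam v) • Submodule.Quotient.mk c)
        (fun a b c => by rw [map_add, add_smul]) (fun a v c => by rw [map_smul, smul_assoc])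
        (fun v c c' => by rw [Submodule.Quotient.mk_add, smul_add])
        (fun a v c => by rw [Submodule.Quotient.mk_smul, smul_comm]))
    have h2 : ev (d.lTensor V (T x)) = Submodule.Quotient.mk (d (x i)) := by
      clear hz
      induction x using Finsupp.induction_linear with
      | zero => simp
      | add f g hf hg => simp [map_add, hf, hg]
      | single j y =>
        by_cases hji : j = i
        · subst hji; simp [T, ev, lam]
        · simp [T, ev, lam, hji]
    rw [hz, map_zero] at h2
    exact (Submodule.Quotient.mk_eq_zero _).mp h2.symm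
  choose r hr using hx
  refine ⟨x.sum fun i _ => r i • b i, ?_⟩
  simp only [T, Finsupp.lsum_apply, Finsupp.sum, sum_tmul]
  refine Finset.sum_congr rfl fun i _ => ?_
  rw [mk_apply, smul_tmul, ← sub_eq_zero, ← tmul_sub]
  exact hkill _ _ (hr i)

theorem exists_sub_mem_pow [Module.Flat R C₀] [Module.Flat R C₁] (he : d e = 0)
    (H : ∀ x, d x ∈ m • (⊤ : Submodule R C₁) → ∃ r : R, x - r • e ∈ m • (⊤ : Submodule R C₀))
    (n : ℕ) : ∀ x, d x ∈ m ^ n • (⊤ : Submodule R C₁) → ∃ r : R, x - r • e ∈ m ^ n • (⊤ : Submodule R C₀) := by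
  induction n with
  | zero => exact fun x _ => ⟨0, by simp⟩
  | succ n ih =>
    intro x hx
    have hle : m ^ (n + 1) ≤ m ^ n := Ideal.pow_le_pow_right n.le_succ
    obtain ⟨r, hr⟩ := ih x (Submodule.smul_mono_left hle hx)
    set J := m ^ n with hJ
    set J' := m ^ (n + 1) with hJ'
    set y := x - r • e with hy
    have hdy : d y = d x := by simp [hy, he]
    rw [← range_idealMul] at hr
    obtain ⟨z, hz⟩ := hr
    rw [← hdy, ← hz] at hx
    let ι : J' →ₗ[R] J := Submodule.inclusion hle
    let V := J ⧸ LinearMap.range ι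
    let q : J →ₗ[R] V := (LinearMap.range ι).mkQ
    have hexact : Function.Exact ι q := (LinearMap.exact_map_mkQ_range ι)
    have hq : Function.Surjective q := Submodule.mkQ_surjective _
    have hV : Module.IsTorsionBySet R V (m : Set R) := by
      intro v a
      obtain ⟨j, rfl⟩ := hq v
      rw [← map_smul]
      refine (hexact _).mpr ⟨⟨(a : R) * j, ?_⟩, Subtype.ext rfl⟩
      show (a : R) * (j : R) ∈ m ^ (n + 1)
      rw [pow_succ']; exact Ideal.mul_mem_mul a.2 j.2
    letI : Module (R ⧸ m) V := hV.module
    haveI : IsScalarTower R (R ⧸ m) V := hV.isScalarTower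
    have hnat : ∀ w : J ⊗[R] C₀, idealMul J C₁ (d.lTensor J w) = d (idealMul J C₀ w) := fun w => by
      induction w using TensorProduct.induction_on with
      | zero => simp
      | tmul a x => simp [idealMul_tmul]
      | add a b ha hb => simp [ha, hb]
    have hmem : d.lTensor J z ∈ LinearMap.range (ι.rTensor C₁) := by
      rw [← range_idealMul, ← hnat] at hx
      obtain ⟨w, hw⟩ := hx
      refine ⟨w, idealMul_injective J C₁ (Eq.trans ?_ hw)⟩
      clear hw
      induction w using TensorProduct.induction_on with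
      | zero => simp
      | tmul a x => simp [idealMul_tmul, ι]
      | add a b ha hb => simp [ha, hb]
    have h0 : d.lTensor V (q.rTensor C₀ z) = 0 := by
      rw [← LinearMap.comp_apply, LinearMap.lTensor_comp_rTensor, ← LinearMap.rTensor_comp_lTensor,
        LinearMap.comp_apply]
      exact (rTensor_exact C₁ hexact hq _).mpr hmem
    obtain ⟨v, hv⟩ := exists_tmul_eq_of_lTensor_eq_zero m d e H _ h0
    obtain ⟨a, rfl⟩ := hq v
    have h3 : q.rTensor C₀ (z - a ⊗ₜ e) = 0 := by simp [map_sub, hv]
    obtain ⟨w, hw⟩ := (rTensor_exact C₀ hexact hq _).mp h3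
    refine ⟨r + a, ?_⟩
    have h4 : x - (r + (a : R)) • e = idealMul J C₀ (z - a ⊗ₜ e) := by
      rw [map_sub, idealMul_tmul, hz, hy, add_smul, sub_add_eq_sub_sub]
    rw [h4, ← hw, ← range_idealMul]
    refine ⟨w, ?_⟩
    clear hw
    induction w using TensorProduct.induction_on with
    | zero => simp
    | tmul a x => simp [idealMul_tmul, ι]
    | add a b ha hb => simp [ha, hb]

end Groth.Agent.RigidRel
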