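import Groth.Agent.Lib.RigidRel.MulEtale
import Groth.Agent.Lib.SGA7Torsion.Infinitesimal
import Mathlib.RingTheory.Filtration
import Mathlib.AlgebraicGeometry.PointsPi

/-!
# Multiplication by a multiple of the characteristic is not étale
-/

open CategoryTheory Limits AlgebraicGeometry MonoidalCategory CartesianMonoidalCategory MonObj

set_option linter.style.haveILetI false
set_option backward.isDefEq.respectTransparency false

namespace Groth.Agent.MulEtale

universe u

open SGA7Torsion

/-- A nonzero derivation at a rational point of a domain that is not a field. -/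
theorem exists_derivation_at {K C : Type u} [Field K] [CommRing C] [IsDomain C] [IsNoetherianRing C]
    [Algebra K C] (ε : C →ₐ[K] K) (hm : RingHom.ker ε ≠ ⊥) :
    ∃ δ : C →ₗ[K] K, δ 1 = 0 ∧ (∀ c d, δ (c * d) = ε c * δ d + ε d * δ c) ∧ ∃ c, δ c ≠ 0 := by
  set m : Ideal C := RingHom.ker ε
  have hm2 : m * m ≠ m := by
    intro h
    obtain ⟨e, he, he'⟩ := (Ideal.isIdempotentElem_iff_of_fg m (IsNoetherian.noetherian m)).1 h
    rcases (IsIdempotentElem.iff_eq_zero_or_one.1 he) with rfl | rfl
    · exact hm (by simpa using he')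
    · exact RingHom.ker_ne_top ε.toRingHom ((he'.trans Ideal.span_singleton_one))
  obtain ⟨c₀, hc₀, hc₀'⟩ : ∃ c, c ∈ m ∧ c ∉ m * m :=
    SetLike.exists_of_lt (lt_of_le_of_ne Ideal.mul_le_left hm2)
  obtain ⟨lam, hlam, hlam'⟩ := Submodule.exists_dual_map_eq_bot_of_notMem
    (p := (m * m).restrictScalars K) (x := c₀) hc₀' inferInstance
  let pr : C →ₗ[K] C := LinearMap.id - (Algebra.linearMap K C).comp ε.toLinearMap
  have hpr : ∀ c, pr c ∈ m := fun c => by
    show ε (pr c) = 0
    simp [pr]
  refine ⟨lam.comp pr, by simp [pr], fun c c' => ?_, c₀, ?_⟩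
  · have he' : pr (c * c') = ε c • pr c' + ε c' • pr c + pr c * pr c' := by
      simp only [pr, LinearMap.sub_apply, LinearMap.id_apply, LinearMap.comp_apply,
        AlgHom.toLinearMap_apply, Algebra.linearMap_apply, map_mul, Algebra.smul_def]
      ring
    have hz : lam (pr c * pr c') = 0 := by
      have : pr c * pr c' ∈ (m * m).restrictScalars K := Ideal.mul_mem_mul (hpr c) (hpr c')
      have h2 := Submodule.mem_map_of_mem (f := lam) this
      rw [hlam'] at h2
      exact h2
    simp only [LinearMap.comp_apply]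
    rw [he', map_add, map_add, map_smul, map_smul, hz, add_zero, smul_eq_mul, smul_eq_mul]
  · have hεc : ε c₀ = 0 := hc₀
    have hpc : pr c₀ = c₀ := by simp [pr, hεc]
    simpa [hpc] using hlam

/-- A first order deformation of the identity annihilated by `n` gives a point killed by `n`. -/
theorem exists_pow_eq_one {K : Type u} [CommRing K] {B : Over (Spec (CommRingCat.of K))} [GrpObj B]
    {C : Type u} [CommRing C] [Algebra K C] {E : Type u} [CommRing E] [Algebra K E]
    (I : Ideal E) (hI : ∀ a ∈ I, ∀ b ∈ I, a * b = 0) (ε : C →ₐ[K] E) (δ : C →ₗ[K] E)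
    (hδ : ∀ c, δ c ∈ I) (hL : ∀ c d, δ (c * d) = ε c * δ d + ε d * δ c) (h1 : δ 1 = 0)
    (j : specOver K C ⟶ B) [IsOpenImmersion j.left] (hε : chartPt j ε = 1) (n : ℕ)
    (hn : ∀ c, n • δ c = 0) :
    ∃ ψ : C →ₐ[K] E, (∀ c, ψ c = ε c + δ c) ∧ chartPt j ψ ^ n = 1 := by
  let ψ : C →ₐ[K] E := (sumMap (R := K) I hI).comp (deform I ε δ hδ hL h1 1 0)
  have hψ : ∀ c, ψ c = ε c + δ c := fun c => by simp [ψ, sumMap_deform_apply]
  refine ⟨ψ, hψ, ?_⟩
  rw [pow_eq_chartPt I hI ε δ hδ hL h1 j hε _ ψ hψ rfl, ← hε]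
  congr 1
  exact AlgHom.ext fun c => by simp [sumMap_deform_apply, hn c]

/-- Multiplication by an integer vanishing in the field is not étale in positive dimension. -/
theorem ne_zero_of_formallyUnramified_zpow (K : Type u) [Field K]
    (A : Over (Spec (CommRingCat.of K))) [GrpObj A] [IsProper A.hom] [GeometricallyIntegral A.hom]
    (hA : 0 < topologicalKrullDim A.left) (d : ℤ) (hd : FormallyUnramified (𝟙 A ^ d).left) :
    (d : K) ≠ 0 := by
  intro hd0
  haveI : IsLocallyNoetherian A.left := LocallyOfFiniteType.isLocallyNoetherian A.hom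
  haveI : IsIntegral A.left := GeometricallyIntegral.isIntegral_of_subsingleton A.hom
  haveI : IsProper ((𝟙 A ^ d).left ≫ A.hom) := by rw [Over.w]; infer_instance
  haveI : LocallyOfFiniteType (𝟙 A ^ d).left := locallyOfFiniteType_of_comp _ A.hom
  let pt : Spec (CommRingCat.of K) := IsLocalRing.closedPoint K
  obtain ⟨U, hU, hxU, -⟩ := exists_isAffineOpen_mem_and_subset (X := A.left) (U := ⊤)
    (x := (1 : specOver K K ⟶ A).left pt) trivial
  let α : K →+* Γ(A.left, U) := (Spec.preimage (hU.fromSpec ≫ A.hom)).hom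
  algebraize [α]
  let C := Γ(A.left, U)
  have hα : Spec.map (CommRingCat.ofHom (algebraMap K C)) = hU.fromSpec ≫ A.hom := Spec.map_preimage _
  let j : specOver K C ⟶ A := Over.homMk hU.fromSpec hα.symm
  haveI : IsOpenImmersion j.left := inferInstanceAs (IsOpenImmersion hU.fromSpec)
  have hrange : Set.range j.left = (U : Set A.left) := hU.range_fromSpec
  obtain ⟨ε, hε⟩ := exists_chartPt j (1 : specOver K K ⟶ A)
    (hrange ▸ range_subset_open _ U hxU)
  haveI : Nonempty U := ⟨⟨_, hxU⟩⟩
  haveI : IsNoetherianRing C := IsLocallyNoetherian.component_noetherian ⟨U, hU⟩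
  let m : Ideal C := RingHom.ker ε
  have hm : m ≠ ⊥ := by
    intro hbot
    have hinj : Function.Injective ε :=
      (RingHom.injective_iff_ker_eq_bot ε.toRingHom).2 hbot
    have hfld : IsField C :=
      (RingEquiv.ofBijective ε.toRingHom ⟨hinj, fun r => ⟨algebraMap K C r, ε.commutes r⟩⟩).toMulEquiv.isField
        (Field.toIsField K)
    haveI : Subsingleton (Spec (.of C)) := by
      letI := hfld.toField
      exact inferInstanceAs (Subsingleton (PrimeSpectrum C))
    have hUsub : ∀ x y, x ∈ U → y ∈ U → x = y := by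
      intro x y hx hy
      rw [← SetLike.mem_coe, ← hrange] at hx hy
      obtain ⟨⟨a, rfl⟩, ⟨b, rfl⟩⟩ := And.intro hx hy
      exact congrArg j.left (Subsingleton.elim (α := Spec (CommRingCat.of C)) a b)
    let e : A.left := (1 : specOver K K ⟶ A).left pt
    have he : IsClosed ({e} : Set A.left) := by
      haveI : IsClosedImmersion (1 : specOver K K ⟶ A).left := by
        haveI : IsClosedImmersion ((1 : specOver K K ⟶ A).left ≫ A.hom) := by
          rw [Over.w]
          simp only [Over.mk_hom, Algebra.algebraMap_self, CommRingCat.ofHom_id, Spec.map_id]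
          exact MorphismProperty.id_mem @IsClosedImmersion _
        exact IsClosedImmersion.of_comp _ A.hom
      have := (1 : specOver K K ⟶ A).left.isClosedEmbedding.isClosedMap _
        (isClosed_singleton (x := pt))
      rwa [Set.image_singleton] at this
    have hUe : (U : Set A.left) = {e} :=
      Set.eq_singleton_iff_unique_mem.2 ⟨hxU, fun y hy => hUsub y e hy hxU⟩
    haveI : Subsingleton A.left := by
      have hdense : Dense (U : Set A.left) := U.isOpen.dense ⟨e, hxU⟩
      have h1 := hdense.closure_eq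
      rw [hUe, he.closure_eq] at h1
      exact ⟨fun a b => ((Set.eq_univ_iff_forall.1 h1 a).trans (Set.eq_univ_iff_forall.1 h1 b).symm)⟩
    exact hA.ne' (le_antisymm (topologicalKrullDim_zero_of_discreteTopology A.left) hA.le)
  obtain ⟨lam, hlam0, hprm, c₀, hlam⟩ := exists_derivation_at ε hm
  let I : Ideal (TrivSqZeroExt K K) := RingHom.ker (TrivSqZeroExt.fstHom K K K)
  have hI : ∀ a ∈ I, ∀ b ∈ I, a * b = 0 := by
    intro a ha b hb
    have ha' : a.fst = 0 := ha
    have hb' : b.fst = 0 := hb
    exact TrivSqZeroExt.ext (by simp [ha']) (by simp [ha', hb'])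
  let ε' : C →ₐ[K] TrivSqZeroExt K K := (TrivSqZeroExt.inlAlgHom K K K).comp ε
  let δ : C →ₗ[K] TrivSqZeroExt K K := (TrivSqZeroExt.inrHom K K).comp lam
  have hδ : ∀ c, δ c ∈ I := fun c => by show (δ c).fst = 0; simp [δ]
  have hL : ∀ c c', δ (c * c') = ε' c * δ c' + ε' c' * δ c := fun c c' =>
    TrivSqZeroExt.ext (by simp [δ, ε']) (by simp [δ, ε', hprm, mul_comm])
  have h1 : δ 1 = 0 := by simp [δ, hlam0]
  have hε' : chartPt j ε' = 1 := by rw [← specHom_chartPt, ← hε, comp_one]
  have hn0 : ((d.natAbs : ℕ) : K) = 0 := by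
    rcases Int.natAbs_eq d with h | h <;> rw [h] at hd0 <;> simpa using hd0
  obtain ⟨ψ, hψ, hvd⟩ := exists_pow_eq_one I hI ε' δ hδ hL h1 j hε' d.natAbs (fun c => by
    rw [← Nat.cast_smul_eq_nsmul K, hn0, zero_smul])
  let v : specOver K (TrivSqZeroExt K K) ⟶ A := chartPt j ψ
  replace hvd : v ^ d.natAbs = 1 := hvd
  have hvd' : v ^ d = 1 := by
    obtain ⟨k, rfl | rfl⟩ := Int.eq_nat_or_neg d
    · simpa using hvd
    · simp only [Int.natAbs_neg, Int.natAbs_natCast] at hvd
      simp [zpow_neg, hvd]
  have hveq : v = 1 := by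
    set f := (𝟙 A ^ d).left
    let i := specHom (TrivSqZeroExt.fstHom K K K)
    have hi : i ≫ v = i ≫ 1 := by
      rw [comp_one, specHom_chartPt, hε]
      congr 1
      exact AlgHom.ext fun c => by simp [hψ, ε', δ]
    have hsurj : Function.Surjective i.left := by
      intro x
      have hx : x ∈ Set.range (PrimeSpectrum.comap (TrivSqZeroExt.fstHom K K K).toRingHom) := by
        rw [range_comap_of_surjective _ _ (fun a => ⟨TrivSqZeroExt.inl a, rfl⟩)]
        intro z hz
        have hz2 : z * z = 0 := hI z hz z hz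
        exact x.2.mem_of_pow_mem 2 (by rw [pow_two, hz2]; exact zero_mem _)
      exact hx
    have hvf : v.left ≫ f = (1 : specOver K (TrivSqZeroExt K K) ⟶ A).left ≫ f := by
      have h : v ≫ 𝟙 A ^ d = 1 ≫ 𝟙 A ^ d := by
        rw [GrpObj.comp_zpow, GrpObj.comp_zpow, Category.comp_id, Category.comp_id, hvd', one_zpow]
      exact congrArg (fun x => x.left) h
    let w := pullback.lift _ _ hvf
    have hrangew : Set.range w ⊆ Set.range (pullback.diagonal f) := by
      rintro _ ⟨x, rfl⟩
      obtain ⟨y, rfl⟩ := hsurj x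
      have : i.left ≫ w = (i.left ≫ v.left) ≫ pullback.diagonal f := by
        apply pullback.hom_ext
        · simp [w]
        · simp only [w, Category.assoc, pullback.diagonal_snd, Category.comp_id, pullback.lift_snd]
          exact (congrArg (fun x => x.left) hi).symm
      exact ⟨(i.left ≫ v.left) y, by rw [← Scheme.Hom.comp_apply, ← this]; rfl⟩
    let l := IsOpenImmersion.lift (pullback.diagonal f) w hrangew
    have hl : l ≫ pullback.diagonal f = w := IsOpenImmersion.lift_fac _ _ hrangew
    ext1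
    have e1 := congrArg (· ≫ pullback.fst f f) hl
    have e2 := congrArg (· ≫ pullback.snd f f) hl
    simp only [Category.assoc, pullback.diagonal_fst, pullback.diagonal_snd, Category.comp_id, w,
      pullback.lift_fst, pullback.lift_snd] at e1 e2
    exact e1.symm.trans e2
  have h2 := chartPt_injective j (hveq.trans hε'.symm)
  have h3 := congrArg TrivSqZeroExt.snd (DFunLike.congr_fun h2 c₀)
  rw [hψ] at h3
  simp [ε', δ] at h3
  exact hlam h3

end Groth.Agent.MulEtale
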